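import Mathlib
import Cfsg.Prelude.Def_Characters
import Cfsg.Prelude.Def_OddOrderChar
import Cfsg.Agent.CharBasic.Complete

/-!
Virtual characters: closure properties, integrality of inner products, elements of norm one and two,
signed irreducible characters.
-/

set_option autoImplicit false

open scoped ComplexConjugate

namespace Cfsg.Agent.H43

open Cfsg.Agent.CharBasic

universe u

variable {G : Type u} [Group G]

/-- An irreducible character up to sign. -/
def Signed (θ : G → ℂ) : Prop := Cfsg.IsIrrCharacter G θ ∨ Cfsg.IsIrrCharacter G (-θ)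

theorem gen_of_char {χ : G → ℂ} (h : Cfsg.IsCharacter G χ) : Cfsg.IsGeneralizedCharacter G χ :=
  ⟨χ, 0, h, IsChar.zero, by simp⟩

theorem gen_of_irr {χ : G → ℂ} (h : Cfsg.IsIrrCharacter G χ) : Cfsg.IsGeneralizedCharacter G χ :=
  gen_of_char (IsIrr.isCharacter h)

theorem gen_zero : Cfsg.IsGeneralizedCharacter G (0 : G → ℂ) := gen_of_char IsChar.zero

theorem gen_neg {θ : G → ℂ} (h : Cfsg.IsGeneralizedCharacter G θ) :
    Cfsg.IsGeneralizedCharacter G (-θ) := by
  obtain ⟨χ, ψ, hχ, hψ, rfl⟩ := h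
  exact ⟨ψ, χ, hψ, hχ, by rw [neg_sub]⟩

theorem gen_add {θ η : G → ℂ} (h : Cfsg.IsGeneralizedCharacter G θ)
    (h' : Cfsg.IsGeneralizedCharacter G η) : Cfsg.IsGeneralizedCharacter G (θ + η) := by
  obtain ⟨χ, ψ, hχ, hψ, rfl⟩ := h
  obtain ⟨χ', ψ', hχ', hψ', rfl⟩ := h'
  exact ⟨χ + χ', ψ + ψ', IsChar.add hχ hχ', IsChar.add hψ hψ', by abel⟩

theorem gen_sub {θ η : G → ℂ} (h : Cfsg.IsGeneralizedCharacter G θ)
    (h' : Cfsg.IsGeneralizedCharacter G η) : Cfsg.IsGeneralizedCharacter G (θ - η) := by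
  rw [sub_eq_add_neg]; exact gen_add h (gen_neg h')

theorem gen_zsmul {θ : G → ℂ} (h : Cfsg.IsGeneralizedCharacter G θ) (n : ℤ) :
    Cfsg.IsGeneralizedCharacter G (n • θ) := by
  induction n using Int.induction_on with
  | zero => simpa using gen_zero
  | succ k ih => rw [add_zsmul, one_zsmul]; exact gen_add ih h
  | pred k ih => rw [sub_zsmul, one_zsmul]; exact gen_add ih (gen_neg h)

theorem gen_sum {ι : Type*} (s : Finset ι) (f : ι → G → ℂ)
    (h : ∀ i ∈ s, Cfsg.IsGeneralizedCharacter G (f i)) :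
    Cfsg.IsGeneralizedCharacter G (∑ i ∈ s, f i) :=
  Finset.sum_induction f _ (fun _ _ => gen_add) gen_zero h

theorem gen_isClassFunction {θ : G → ℂ} (h : Cfsg.IsGeneralizedCharacter G θ) :
    Cfsg.IsClassFunction G θ := by
  obtain ⟨χ, ψ, hχ, hψ, rfl⟩ := h
  intro g x
  simp only [Pi.sub_apply, IsChar.isClassFunction hχ g x, IsChar.isClassFunction hψ g x]

theorem Signed.gen {θ : G → ℂ} (h : Signed θ) : Cfsg.IsGeneralizedCharacter G θ := by
  rcases h with h | h
  · exact gen_of_irr h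
  · have := gen_neg (gen_of_irr h); rwa [neg_neg] at this

theorem Signed.isClassFunction {θ : G → ℂ} (h : Signed θ) : Cfsg.IsClassFunction G θ :=
  gen_isClassFunction h.gen

theorem Signed.neg {θ : G → ℂ} (h : Signed θ) : Signed (-θ) := by
  rcases h with h | h
  · exact Or.inr (by rwa [neg_neg])
  · exact Or.inl h

theorem Signed.one_ne_zero {θ : G → ℂ} (h : Signed θ) : θ 1 ≠ 0 := by
  rcases h with h | h
  · exact IsIrr.one_ne_zero h
  · have := IsIrr.one_ne_zero h; simpa using this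

theorem gen_isIntegral [Finite G] {θ : G → ℂ} (h : Cfsg.IsGeneralizedCharacter G θ) (g : G) :
    IsIntegral ℤ (θ g) := by
  obtain ⟨χ, ψ, hχ, hψ, rfl⟩ := h
  exact (IsChar.isIntegral hχ g).sub (IsChar.isIntegral hψ g)

theorem gen_inv_apply [Finite G] {θ : G → ℂ} (h : Cfsg.IsGeneralizedCharacter G θ) (g : G) :
    θ g⁻¹ = conj (θ g) := by
  obtain ⟨χ, ψ, hχ, hψ, rfl⟩ := h
  simp [IsChar.inv_apply hχ, IsChar.inv_apply hψ]

theorem gen_one_int {θ : G → ℂ} (h : Cfsg.IsGeneralizedCharacter G θ) : ∃ n : ℤ, θ 1 = n := by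
  obtain ⟨χ, ψ, hχ, hψ, rfl⟩ := h
  obtain ⟨a, ha⟩ := IsChar.exists_degree hχ
  obtain ⟨b, hb⟩ := IsChar.exists_degree hψ
  exact ⟨(a : ℤ) - b, by simp [ha, hb]⟩

variable [Fintype G]

theorem gen_inner_int {θ η : G → ℂ} (h : Cfsg.IsGeneralizedCharacter G θ)
    (h' : Cfsg.IsGeneralizedCharacter G η) : ∃ n : ℤ, Cfsg.classInner θ η = n := by
  obtain ⟨χ, ψ, hχ, hψ, rfl⟩ := h
  obtain ⟨χ', ψ', hχ', hψ', rfl⟩ := h'
  obtain ⟨a, ha⟩ := classInner_isChar_nat hχ hχ'
  obtain ⟨b, hb⟩ := classInner_isChar_nat hχ hψ'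
  obtain ⟨c, hc⟩ := classInner_isChar_nat hψ hχ'
  obtain ⟨d, hd⟩ := classInner_isChar_nat hψ hψ'
  exact ⟨((a : ℤ) - b) - ((c : ℤ) - d), by
    simp [classInner_sub_left, classInner_sub_right, ha, hb, hc, hd]; ring⟩

theorem gen_inner_symm {θ η : G → ℂ} (h : Cfsg.IsGeneralizedCharacter G θ)
    (h' : Cfsg.IsGeneralizedCharacter G η) : Cfsg.classInner θ η = Cfsg.classInner η θ := by
  obtain ⟨n, hn⟩ := gen_inner_int h h'
  rw [← classInner_conj_symm θ η, hn, map_intCast]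

theorem Signed.inner_self {θ : G → ℂ} (h : Signed θ) : Cfsg.classInner θ θ = 1 := by
  rcases h with h | h
  · exact classInner_irr_self h
  · simpa [classInner_neg_left, classInner_neg_right] using classInner_irr_self h

/-- Two signed irreducible characters are equal up to sign or orthogonal. -/
theorem Signed.inner_cases {θ η : G → ℂ} (h : Signed θ) (h' : Signed η) :
    (Cfsg.classInner θ η = 0) ∨ θ = η ∨ θ = -η := by
  rcases h with h | h <;> rcases h' with h' | h'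
  · by_cases he : θ = η
    · exact Or.inr (Or.inl he)
    · exact Or.inl (classInner_irr_of_ne h h' he)
  · by_cases he : θ = -η
    · exact Or.inr (Or.inr he)
    · left; simpa [classInner_neg_right] using classInner_irr_of_ne h h' he
  · by_cases he : -θ = η
    · exact Or.inr (Or.inr (by rw [← he, neg_neg]))
    · left; simpa [classInner_neg_left] using classInner_irr_of_ne h h' he
  · by_cases he : -θ = -η
    · exact Or.inr (Or.inl (neg_inj.mp he))
    · left; simpa [classInner_neg_left, classInner_neg_right] using classInner_irr_of_ne h h' he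

open scoped Classical in
/-- A virtual character with squared norm `N` has coefficients with squares summing to `N`. -/
theorem gen_norm_eq {θ : G → ℂ} (h : Cfsg.IsGeneralizedCharacter G θ) :
    ∃ n : Cfsg.IrrCharacter G → ℤ, θ = ∑ χ, (n χ : ℂ) • (χ : G → ℂ) ∧
      Cfsg.classInner θ θ = ((∑ χ, n χ ^ 2 : ℤ) : ℂ) := by
  choose n hn using fun χ : Cfsg.IrrCharacter G => gen_inner_int h (gen_of_irr χ.2)
  have he : θ = ∑ χ, (n χ : ℂ) • (χ : G → ℂ) := by
    conv_lhs => rw [classFunction_expansion (gen_isClassFunction h)]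
    exact Finset.sum_congr rfl fun χ _ => by rw [hn]
  refine ⟨n, he, ?_⟩
  rw [classInner_eq_sum (gen_isClassFunction h), Int.cast_sum]
  refine Finset.sum_congr rfl fun χ _ => ?_
  rw [hn, map_intCast, Int.cast_pow, sq]

open scoped Classical in
theorem gen_eq_zero_of_norm {θ : G → ℂ} (h : Cfsg.IsGeneralizedCharacter G θ)
    (h0 : Cfsg.classInner θ θ = 0) : θ = 0 := classInner_self_eq_zero.mp h0

open scoped Classical in
theorem signed_of_norm_one {θ : G → ℂ} (h : Cfsg.IsGeneralizedCharacter G θ)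
    (h1 : Cfsg.classInner θ θ = 1) : Signed θ := by
  obtain ⟨n, he, hn⟩ := gen_norm_eq h
  rw [h1] at hn
  have hs : (∑ χ, n χ ^ 2) = 1 := by exact_mod_cast hn.symm
  obtain ⟨χ₀, hχ₀⟩ : ∃ χ₀, n χ₀ ≠ 0 := by
    by_contra hne
    push Not at hne
    simp [hne] at hs
  have hsq : ∀ χ, n χ ≠ 0 → 1 ≤ n χ ^ 2 := fun χ hχ => by nlinarith [Int.one_le_abs hχ, sq_abs (n χ)]
  have hsplit := Finset.add_sum_erase Finset.univ (fun χ => n χ ^ 2) (Finset.mem_univ χ₀)
  have hnn : 0 ≤ ∑ χ ∈ Finset.univ.erase χ₀, n χ ^ 2 := Finset.sum_nonneg fun χ _ => sq_nonneg _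
  have hrest : ∑ χ ∈ Finset.univ.erase χ₀, n χ ^ 2 = 0 := by
    have := hsq χ₀ hχ₀; omega
  have hval : n χ₀ ^ 2 = 1 := by omega
  have hz : ∀ χ, χ ≠ χ₀ → n χ = 0 := fun χ hχ => by
    have := (Finset.sum_eq_zero_iff_of_nonneg fun χ _ => sq_nonneg (n χ)).1 hrest χ
      (Finset.mem_erase.mpr ⟨hχ, Finset.mem_univ _⟩)
    simpa using this
  rw [Finset.sum_eq_single χ₀ (fun χ _ hχ => by simp [hz χ hχ]) (by simp)] at he
  rcases sq_eq_one_iff.mp hval with hv | hv
  · left; rw [he, hv]; simpa using χ₀.2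
  · right; rw [he, hv]; simpa using χ₀.2

open scoped Classical in
theorem signed_pair_of_norm_two {θ : G → ℂ} (h : Cfsg.IsGeneralizedCharacter G θ)
    (h2 : Cfsg.classInner θ θ = 2) :
    ∃ μ ν : G → ℂ, Signed μ ∧ Signed ν ∧ Cfsg.classInner μ ν = 0 ∧ θ = μ + ν := by
  obtain ⟨n, he, hn⟩ := gen_norm_eq h
  rw [h2] at hn
  have hs : (∑ χ, n χ ^ 2) = 2 := by exact_mod_cast hn.symm
  obtain ⟨χ₀, hχ₀⟩ : ∃ χ₀, n χ₀ ≠ 0 := by
    by_contra hne
    push Not at hne
    simp [hne] at hs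
  have hsplit := Finset.add_sum_erase Finset.univ (fun χ => n χ ^ 2) (Finset.mem_univ χ₀)
  have hnn : 0 ≤ ∑ χ ∈ Finset.univ.erase χ₀, n χ ^ 2 := Finset.sum_nonneg fun χ _ => sq_nonneg _
  have hv : n χ₀ = 1 ∨ n χ₀ = -1 := by
    have hb : n χ₀ ^ 2 ≤ 2 := by omega
    have h1 : -1 ≤ n χ₀ := by nlinarith
    have h2 : n χ₀ ≤ 1 := by nlinarith
    omega
  have hμ : Signed ((n χ₀ : ℂ) • (χ₀ : G → ℂ)) := by
    rcases hv with hv | hv <;> rw [hv]
    · left; simpa using χ₀.2
    · right; simpa using χ₀.2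
  refine ⟨_, θ - (n χ₀ : ℂ) • (χ₀ : G → ℂ), hμ, ?_, ?_, by abel⟩
  · refine signed_of_norm_one (gen_sub h hμ.gen) ?_
    have hi : Cfsg.classInner θ (χ₀ : G → ℂ) = (n χ₀ : ℂ) := by
      rw [he, classInner_sum_irr]
    have hi' : Cfsg.classInner (χ₀ : G → ℂ) θ = (n χ₀ : ℂ) := by
      rw [gen_inner_symm (gen_of_irr χ₀.2) h, hi]
    simp only [classInner_sub_left, classInner_sub_right, classInner_smul_left,
      classInner_smul_right, map_intCast, hi, hi', h2, classInner_irr_self χ₀.2]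
    rcases hv with hv | hv <;> rw [hv] <;> norm_num
  · have hi' : Cfsg.classInner (χ₀ : G → ℂ) θ = (n χ₀ : ℂ) := by
      rw [gen_inner_symm (gen_of_irr χ₀.2) h, he, classInner_sum_irr]
    simp [classInner_sub_right, classInner_smul_left, classInner_smul_right, hi',
      classInner_irr_self χ₀.2]

end Cfsg.Agent.H43
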