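import Mathlib
import Cfsg.Prelude.Def_OddOrderChar
import Cfsg.Agent.CharBasic.Orth
import Cfsg.Agent.H43.Virtual

/-!
Integer spans, linear isometries on them, orthogonality of signed irreducible characters.
-/

set_option autoImplicit false

open scoped ComplexConjugate

namespace Cfsg.Agent.H43

open Cfsg.Agent.CharBasic

universe u v

section Span

variable {X : Type u} {S : Set (X → ℂ)} {A : Set X}

theorem zspan_mem {α : X → ℂ} (h : α ∈ S) : α ∈ Cfsg.zspan S := Submodule.subset_span h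

theorem zspan_zero : (0 : X → ℂ) ∈ Cfsg.zspan S := Submodule.zero_mem _

theorem zspan_add {α β : X → ℂ} (hα : α ∈ Cfsg.zspan S) (hβ : β ∈ Cfsg.zspan S) :
    α + β ∈ Cfsg.zspan S := Submodule.add_mem _ hα hβ

theorem zspan_sub {α β : X → ℂ} (hα : α ∈ Cfsg.zspan S) (hβ : β ∈ Cfsg.zspan S) :
    α - β ∈ Cfsg.zspan S := Submodule.sub_mem _ hα hβ

theorem zspan_zsmul {α : X → ℂ} (hα : α ∈ Cfsg.zspan S) (n : ℤ) : n • α ∈ Cfsg.zspan S :=
  Submodule.smul_mem _ n hα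

theorem zspan_mono {T : Set (X → ℂ)} (h : S ⊆ T) : Cfsg.zspan S ⊆ Cfsg.zspan T :=
  Submodule.span_mono h

theorem zspan_sum {ι : Type*} (s : Finset ι) (f : ι → X → ℂ)
    (h : ∀ i ∈ s, f i ∈ Cfsg.zspan S) : ∑ i ∈ s, f i ∈ Cfsg.zspan S :=
  Submodule.sum_mem _ h

theorem zspanOn_compl_one [One X] {α : X → ℂ} :
    α ∈ Cfsg.zspanOn S ({1}ᶜ : Set X) ↔ α ∈ Cfsg.zspan S ∧ α 1 = 0 := by
  constructor
  · rintro ⟨h, h'⟩; exact ⟨h, h' 1 (fun h0 => h0 rfl)⟩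
  · rintro ⟨h, h'⟩
    refine ⟨h, fun x hx => ?_⟩
    have : x = 1 := by simpa using hx
    rw [this, h']

theorem zspanOn_zero : (0 : X → ℂ) ∈ Cfsg.zspanOn S A := ⟨zspan_zero, fun _ _ => rfl⟩

theorem zspanOn_add {α β : X → ℂ} (hα : α ∈ Cfsg.zspanOn S A) (hβ : β ∈ Cfsg.zspanOn S A) :
    α + β ∈ Cfsg.zspanOn S A :=
  ⟨zspan_add hα.1 hβ.1, fun x hx => by simp [hα.2 x hx, hβ.2 x hx]⟩

theorem zspanOn_sub {α β : X → ℂ} (hα : α ∈ Cfsg.zspanOn S A) (hβ : β ∈ Cfsg.zspanOn S A) :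
    α - β ∈ Cfsg.zspanOn S A :=
  ⟨zspan_sub hα.1 hβ.1, fun x hx => by simp [hα.2 x hx, hβ.2 x hx]⟩

theorem zspanOn_zsmul {α : X → ℂ} (hα : α ∈ Cfsg.zspanOn S A) (n : ℤ) :
    n • α ∈ Cfsg.zspanOn S A :=
  ⟨zspan_zsmul hα.1 n, fun x hx => by simp [hα.2 x hx]⟩

end Span

section Inner

variable {G : Type u} [Group G] [Fintype G]

theorem classInner_zsmul_left (n : ℤ) (φ ψ : G → ℂ) :
    Cfsg.classInner (n • φ) ψ = (n : ℂ) * Cfsg.classInner φ ψ := by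
  rw [← Int.cast_smul_eq_zsmul ℂ, classInner_smul_left]

theorem classInner_zsmul_right (n : ℤ) (φ ψ : G → ℂ) :
    Cfsg.classInner φ (n • ψ) = (n : ℂ) * Cfsg.classInner φ ψ := by
  rw [← Int.cast_smul_eq_zsmul ℂ, classInner_smul_right, map_intCast]

theorem classInner_conjFun (φ ψ : G → ℂ) :
    Cfsg.classInner (Cfsg.conjFun φ) (Cfsg.conjFun ψ) = conj (Cfsg.classInner φ ψ) := by
  simp [classInner_def, Cfsg.conjFun]

theorem Signed.inner_eq {θ η : G → ℂ} (h : Signed θ) (h' : Signed η) :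
    Cfsg.classInner θ η = 0 ∨ ∃ s : ℂ, s ^ 2 = 1 ∧ θ = s • η ∧ Cfsg.classInner θ η = s ∧
      conj s = s := by
  rcases Signed.inner_cases h h' with h0 | h1 | h1
  · exact Or.inl h0
  · exact Or.inr ⟨1, by simp, by simp [h1], by rw [h1, h'.inner_self], map_one _⟩
  · exact Or.inr ⟨-1, by simp, by simp [h1], by rw [h1, classInner_neg_left, h'.inner_self],
      by simp⟩

/-- If `α ⊥ β`, `γ ⊥ δ`, `α − β ⊥ uγ − vδ` and the degrees balance, then `α ⊥ γ`. -/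
theorem signed_orth_aux {α β γ δ : G → ℂ} (hα : Signed α) (hβ : Signed β) (hγ : Signed γ)
    (hδ : Signed δ) {u v : ℝ} (hu : u ≠ 0) (hab : Cfsg.classInner α β = 0)
    (hcd : Cfsg.classInner γ δ = 0)
    (hmix : Cfsg.classInner (α - β) ((u : ℂ) • γ - (v : ℂ) • δ) = 0) (h1 : α 1 = β 1)
    (h2 : (u : ℂ) * γ 1 = (v : ℂ) * δ 1) : Cfsg.classInner α γ = 0 := by
  rcases Signed.inner_eq hα hγ with h | ⟨s, hs, hαγ, hsv, hsc⟩
  · exact h
  exfalso
  have hs0 : s ≠ 0 := fun h0 => by simp [h0] at hs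
  have hu' : (u : ℂ) ≠ 0 := by exact_mod_cast hu
  have hγα : γ = s • α := by rw [hαγ, smul_smul, ← sq, hs, one_smul]
  have had : Cfsg.classInner α δ = 0 := by rw [hαγ, classInner_smul_left, hcd, mul_zero]
  have hbc : Cfsg.classInner β γ = 0 := by
    rw [hγα, classInner_smul_right, ← classInner_conj_symm α β, hab, map_zero, mul_zero]
  simp only [classInner_sub_left, classInner_sub_right, classInner_smul_right, Complex.conj_ofReal,
    hsv, had, hbc] at hmix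
  rcases Signed.inner_eq hβ hδ with h0 | ⟨t, ht, hβδ, htv, -⟩
  · rw [h0] at hmix
    have h3 : (u : ℂ) * s = 0 := by linear_combination hmix
    exact (mul_ne_zero hu' hs0) h3
  · rw [htv] at hmix
    have e1 : α 1 = s * γ 1 := congrFun hαγ 1
    have e2 : β 1 = t * δ 1 := congrFun hβδ 1
    have hδ1 := hδ.one_ne_zero
    have h3 : (u : ℂ) * (s * γ 1) = (u : ℂ) * (t * δ 1) := by rw [← e1, ← e2, h1]
    have h4 : ((v : ℂ) * s - (u : ℂ) * t) * δ 1 = 0 := by linear_combination h3 - s * h2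
    have h5 : (v : ℂ) * s - (u : ℂ) * t = 0 := (mul_eq_zero.mp h4).resolve_right hδ1
    have h6 : (u : ℂ) = 0 := by
      linear_combination (1 / 2 : ℂ) * s * hmix - (1 / 2 : ℂ) * t * h5 - (1 / 2 : ℂ) * (u : ℂ) * hs - (1 / 2 : ℂ) * (u : ℂ) * ht
    exact hu' h6

/-- If `α ⊥ β`, `γ ⊥ δ`, `α − β ⊥ uγ − vδ` and the degrees balance, all four are orthogonal. -/
theorem signed_orth {α β γ δ : G → ℂ} (hα : Signed α) (hβ : Signed β) (hγ : Signed γ)
    (hδ : Signed δ) {u v : ℝ} (hu : u ≠ 0) (hv : v ≠ 0) (hab : Cfsg.classInner α β = 0)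
    (hcd : Cfsg.classInner γ δ = 0)
    (hmix : Cfsg.classInner (α - β) ((u : ℂ) • γ - (v : ℂ) • δ) = 0) (h1 : α 1 = β 1)
    (h2 : (u : ℂ) * γ 1 = (v : ℂ) * δ 1) :
    Cfsg.classInner α γ = 0 ∧ Cfsg.classInner α δ = 0 ∧
      Cfsg.classInner β γ = 0 ∧ Cfsg.classInner β δ = 0 := by
  have hba : Cfsg.classInner β α = 0 := by rw [← classInner_conj_symm, hab, map_zero]
  have hdc : Cfsg.classInner δ γ = 0 := by rw [← classInner_conj_symm, hcd, map_zero]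
  have hm1 : Cfsg.classInner (α - β) ((v : ℂ) • δ - (u : ℂ) • γ) = 0 := by
    rw [← neg_sub ((u : ℂ) • γ), classInner_neg_right, hmix, neg_zero]
  have hm2 : Cfsg.classInner (β - α) ((u : ℂ) • γ - (v : ℂ) • δ) = 0 := by
    rw [← neg_sub α β, classInner_neg_left, hmix, neg_zero]
  have hm3 : Cfsg.classInner (β - α) ((v : ℂ) • δ - (u : ℂ) • γ) = 0 := by
    rw [← neg_sub α β, classInner_neg_left, hm1, neg_zero]
  exact ⟨signed_orth_aux hα hβ hγ hδ hu hab hcd hmix h1 h2,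
    signed_orth_aux hα hβ hδ hγ hv hab hdc hm1 h1 h2.symm,
    signed_orth_aux hβ hα hγ hδ hu hba hcd hm2 h1.symm h2,
    signed_orth_aux hβ hα hδ hγ hv hba hdc hm3 h1.symm h2.symm⟩

end Inner

section Iso

variable {L : Type u} [Group L] [Fintype L] {G : Type v} [Group G] [Fintype G]
  {E : Set (L → ℂ)} {τ : (L → ℂ) → (G → ℂ)}

theorem iso_zero (hτ : Cfsg.IsLinearIsometryOn E τ) {α : L → ℂ} (hα : α ∈ E) : τ 0 = 0 := by
  simpa using hτ.2.1 α hα 0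

theorem iso_sub (hτ : Cfsg.IsLinearIsometryOn E τ) {α β : L → ℂ} (hα : α ∈ E) (hβ : β ∈ E)
    (hd : α - β ∈ E) : τ (α - β) = τ α - τ β := by
  have h := hτ.1 (α - β) hd β hβ
  rw [sub_add_cancel] at h
  rw [h, add_sub_cancel_right]

theorem iso_inner (hτ : Cfsg.IsLinearIsometryOn E τ) {α β : L → ℂ} (hα : α ∈ E) (hβ : β ∈ E) :
    Cfsg.classInner (τ α) (τ β) = Cfsg.classInner α β := hτ.2.2.1 α hα β hβ

theorem iso_gen (hτ : Cfsg.IsLinearIsometryOn E τ) {α : L → ℂ} (hα : α ∈ E) :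
    Cfsg.IsGeneralizedCharacter G (τ α) := hτ.2.2.2 α hα

theorem iso_signed (hτ : Cfsg.IsLinearIsometryOn E τ) {α : L → ℂ} (hα : α ∈ E)
    (h1 : Cfsg.classInner α α = 1) : Signed (τ α) :=
  signed_of_norm_one (iso_gen hτ hα) (by rw [iso_inner hτ hα hα, h1])

end Iso

end Cfsg.Agent.H43
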