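import Mathlib
import Cfsg.Prelude.Def_OddOrderChar
import Cfsg.Agent.CharBasic.Orth
import Cfsg.Agent.H43.Virtual
import Cfsg.Agent.H43.Isometry

/-!
Building coherent extensions from images of the members, and orthonormal projections.
-/

set_option autoImplicit false

open scoped ComplexConjugate

namespace Cfsg.Agent.H43

open Cfsg.Agent.CharBasic

universe u v

theorem classInner_eq_natCast_re {G : Type u} [Group G] [Fintype G] (φ : G → ℂ) :
    Cfsg.classInner φ φ = ((Cfsg.classInner φ φ).re : ℂ) := by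
  rw [classInner_self_eq, Complex.ofReal_re]

theorem classInner_self_re_nonneg {G : Type u} [Group G] [Fintype G] (φ : G → ℂ) :
    0 ≤ (Cfsg.classInner φ φ).re := by
  rw [classInner_self_eq, Complex.ofReal_re]; positivity

/-- A pairwise orthogonal set of nonzero functions on a finite group is finite. -/
theorem finite_of_orth {L : Type u} [Group L] [Fintype L] (S : Set (L → ℂ))
    (h0 : ∀ a ∈ S, a ≠ 0) (horth : ∀ a ∈ S, ∀ b ∈ S, a ≠ b → Cfsg.classInner a b = 0) :
    S.Finite := by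
  have hli : LinearIndependent ℂ (fun a : S => (a : L → ℂ)) := by
    classical
    refine linearIndependent_iff'.2 fun s c hc i hi => ?_
    have h := congrArg (fun φ => Cfsg.classInner φ (i : L → ℂ)) hc
    simp only [classInner_sum_left, classInner_smul_left, classInner_zero_left] at h
    rw [Finset.sum_eq_single i (fun j _ hj => by
      rw [horth _ j.2 _ i.2 (fun e => hj (Subtype.ext e)), mul_zero]) (fun h' => absurd hi h')] at h
    exact (mul_eq_zero.mp h).resolve_right fun e => h0 _ i.2 (classInner_self_eq_zero.mp e)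
  exact Set.finite_coe_iff.mp hli.finite

section Extension

variable {L : Type u} [Group L] [Fintype L] {G : Type v} [Group G] [Fintype G]

open scoped Classical in
/-- Extending a map given on an orthogonal set to its integer span. -/
theorem coherent_of_images (S : Finset (L → ℂ)) (T : Set (L → ℂ)) (hST : ↑S ⊆ T)
    (τ : (L → ℂ) → (G → ℂ)) (hτ : Cfsg.IsLinearIsometryOn (Cfsg.zspanOn T ({1}ᶜ : Set L)) τ)
    (h0 : ∀ a ∈ S, a ≠ 0) (horth : ∀ a ∈ S, ∀ b ∈ S, a ≠ b → Cfsg.classInner a b = 0)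
    (d : (L → ℂ) → ℤ) (hd : ∀ a ∈ S, a 1 = (d a : ℂ))
    (χ₁ : L → ℂ) (hχ₁ : χ₁ ∈ S) (hd1 : d χ₁ ≠ 0)
    (f : (L → ℂ) → (G → ℂ)) (hgen : ∀ a ∈ S, Cfsg.IsGeneralizedCharacter G (f a))
    (hinner : ∀ a ∈ S, ∀ b ∈ S, Cfsg.classInner (f a) (f b) = Cfsg.classInner a b)
    (hagree : ∀ a ∈ S, τ (d χ₁ • a - d a • χ₁) = d χ₁ • f a - d a • f χ₁)
    (hne : ∃ a ∈ S, a ≠ χ₁) :
    Cfsg.IsCoherent (↑S : Set (L → ℂ)) ({1}ᶜ : Set L) τ := by
  let τ₁ : (L → ℂ) → (G → ℂ) := fun α =>
    ∑ a ∈ S, (Cfsg.classInner α a / Cfsg.classInner a a) • f a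
  have hnn : ∀ a ∈ S, Cfsg.classInner a a ≠ 0 := fun a ha e => h0 a ha (classInner_self_eq_zero.mp e)
  have hcoef : ∀ α ∈ Cfsg.zspan (↑S : Set (L → ℂ)), ∃ c : (L → ℂ) → ℤ,
      α = ∑ a ∈ S, c a • a ∧ τ₁ α = ∑ a ∈ S, c a • f a := by
    intro α hα
    obtain ⟨c, -, hc⟩ := Submodule.mem_span_finset.mp hα
    refine ⟨c, hc.symm, Finset.sum_congr rfl fun a ha => ?_⟩
    have : Cfsg.classInner α a = (c a : ℂ) * Cfsg.classInner a a := by
      rw [← hc, classInner_sum_left, Finset.sum_eq_single a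
        (fun b hb hba => by rw [classInner_zsmul_left, horth b hb a ha hba, mul_zero])
        (fun h => absurd ha h), classInner_zsmul_left]
    rw [this, mul_div_cancel_right₀ _ (hnn a ha), Int.cast_smul_eq_zsmul]
  have hpair : ∀ a ∈ S, d χ₁ • a - d a • χ₁ ∈ Cfsg.zspanOn (↑S : Set (L → ℂ)) ({1}ᶜ : Set L) := by
    intro a ha
    rw [zspanOn_compl_one]
    refine ⟨zspan_sub (zspan_zsmul (zspan_mem ha) _) (zspan_zsmul (zspan_mem hχ₁) _), ?_⟩
    simp [hd a ha, hd χ₁ hχ₁, mul_comm]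
  have hmono : Cfsg.zspanOn (↑S : Set (L → ℂ)) ({1}ᶜ : Set L) ⊆ Cfsg.zspanOn T ({1}ᶜ : Set L) :=
    fun α hα => ⟨zspan_mono hST hα.1, hα.2⟩
  refine ⟨?_, τ₁, ⟨?_, ?_, ?_, ?_⟩, ?_⟩
  · obtain ⟨a, ha, hne⟩ := hne
    refine ⟨_, hpair a ha, fun e => ?_⟩
    have := congrArg (fun φ => Cfsg.classInner φ a) e
    simp only [classInner_sub_left, classInner_zsmul_left, classInner_zero_left,
      horth χ₁ hχ₁ a ha (Ne.symm hne), mul_zero, sub_zero, mul_eq_zero, Int.cast_eq_zero] at this
    exact this.elim hd1 (hnn a ha)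
  · intro α _ β _
    simp only [τ₁, classInner_add_left, add_div, add_smul, Finset.sum_add_distrib]
  · intro α _ n
    simp only [τ₁, classInner_zsmul_left, mul_div_assoc, ← smul_smul, Int.cast_smul_eq_zsmul,
      Finset.smul_sum]
  · intro α hα β hβ
    obtain ⟨c, hc, hc'⟩ := hcoef α hα
    obtain ⟨e, he, he'⟩ := hcoef β hβ
    rw [hc', he', hc, he]
    simp only [classInner_sum_left, classInner_sum_right, classInner_zsmul_left,
      classInner_zsmul_right]
    exact Finset.sum_congr rfl fun a ha => congrArg _ (Finset.sum_congr rfl fun b hb => by rw [hinner b hb a ha])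
  · intro α hα
    obtain ⟨c, -, hc'⟩ := hcoef α hα
    rw [hc']
    exact gen_sum _ _ fun a ha => gen_zsmul (hgen a ha) _
  · intro α hα
    obtain ⟨c, hc, hc'⟩ := hcoef α hα.1
    have hsum0 : ∑ a ∈ S, c a * d a = 0 := by
      have h := (zspanOn_compl_one.mp hα).2
      rw [hc, Finset.sum_apply] at h
      have h2 : ((∑ a ∈ S, c a * d a : ℤ) : ℂ) = 0 := by
        rw [← h, Int.cast_sum]
        exact Finset.sum_congr rfl fun a ha => by simp [hd a ha]
      exact_mod_cast h2
    have key : ∀ s : Finset (L → ℂ), s ⊆ S →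
        (∑ a ∈ s, c a • (d χ₁ • a - d a • χ₁)) ∈ Cfsg.zspanOn T ({1}ᶜ : Set L) ∧
        τ (∑ a ∈ s, c a • (d χ₁ • a - d a • χ₁)) = ∑ a ∈ s, c a • (d χ₁ • f a - d a • f χ₁) := by
      intro s
      induction s using Finset.induction_on with
      | empty =>
        intro _
        simp only [Finset.sum_empty]
        exact ⟨zspanOn_zero, iso_zero hτ zspanOn_zero⟩
      | insert a s has ih =>
        intro hs
        obtain ⟨hm, he⟩ := ih ((Finset.subset_insert a s).trans hs)
        have haS := hs (Finset.mem_insert_self a s)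
        have hm' := hmono (hpair a haS)
        rw [Finset.sum_insert has, Finset.sum_insert has]
        refine ⟨zspanOn_add (zspanOn_zsmul hm' _) hm, ?_⟩
        rw [hτ.1 _ (zspanOn_zsmul hm' _) _ hm, he, hτ.2.1 _ hm', hagree a haS]
    obtain ⟨-, hk⟩ := key S subset_rfl
    have hsum0' : ∑ a ∈ S, d a * c a = 0 := by simpa [mul_comm] using hsum0
    have e1 : ∑ a ∈ S, c a • (d χ₁ • a - d a • χ₁) = d χ₁ • α := by
      simp only [smul_sub, Finset.sum_sub_distrib, smul_smul, ← Finset.sum_smul, mul_comm, hsum0', zero_smul,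
        sub_zero, hc, Finset.smul_sum]
    have e2 : ∑ a ∈ S, c a • (d χ₁ • f a - d a • f χ₁) = d χ₁ • τ₁ α := by
      simp only [smul_sub, Finset.sum_sub_distrib, smul_smul, ← Finset.sum_smul, mul_comm, hsum0', zero_smul,
        sub_zero, hc', Finset.smul_sum]
    rw [e1, e2, hτ.2.1 _ (hmono hα)] at hk
    exact (smul_right_injective _ hd1 hk).symm

end Extension

section Proj

variable {G : Type v} [Group G] [Fintype G]

/-- Orthogonal projection on the span of an orthonormal finite set. -/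
noncomputable def proj (R : Finset (G → ℂ)) (v : G → ℂ) : G → ℂ :=
  ∑ α ∈ R, Cfsg.classInner v α • α

variable {R : Finset (G → ℂ)}

open scoped Classical in
theorem inner_proj_mem (hR : ∀ α ∈ R, ∀ β ∈ R, Cfsg.classInner α β = if α = β then 1 else 0)
    (v : G → ℂ) {β : G → ℂ} (hβ : β ∈ R) :
    Cfsg.classInner (proj R v) β = Cfsg.classInner v β := by
  rw [proj, classInner_sum_left, Finset.sum_eq_single β
    (fun α hα hne => by rw [classInner_smul_left, hR α hα β hβ, if_neg hne, mul_zero])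
    (fun h => absurd hβ h), classInner_smul_left, hR β hβ β hβ, if_pos rfl, mul_one]

theorem inner_proj_zero {w : G → ℂ} (hw : ∀ α ∈ R, Cfsg.classInner α w = 0) (v : G → ℂ) :
    Cfsg.classInner (proj R v) w = 0 := by
  rw [proj, classInner_sum_left]
  exact Finset.sum_eq_zero fun α hα => by rw [classInner_smul_left, hw α hα, mul_zero]

open scoped Classical in
theorem proj_norm (hR : ∀ α ∈ R, ∀ β ∈ R, Cfsg.classInner α β = if α = β then 1 else 0)
    (v : G → ℂ) :
    Cfsg.classInner (proj R v) (proj R v)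
      = ((∑ α ∈ R, ‖Cfsg.classInner v α‖ ^ 2 : ℝ) : ℂ) ∧
    Cfsg.classInner v (proj R v) = ((∑ α ∈ R, ‖Cfsg.classInner v α‖ ^ 2 : ℝ) : ℂ) := by
  have h2 : Cfsg.classInner v (proj R v) = ((∑ α ∈ R, ‖Cfsg.classInner v α‖ ^ 2 : ℝ) : ℂ) := by
    rw [proj, classInner_sum_right, Complex.ofReal_sum]
    refine Finset.sum_congr rfl fun α _ => ?_
    rw [classInner_smul_right, mul_comm, Complex.mul_conj', Complex.ofReal_pow]
  refine ⟨?_, h2⟩
  rw [← h2, proj, classInner_sum_right, classInner_sum_right]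
  refine Finset.sum_congr rfl fun α hα => ?_
  rw [classInner_smul_right, classInner_smul_right]
  exact congrArg _ (inner_proj_mem hR v hα)

open scoped Classical in
/-- A vector whose norm is exhausted by its projection equals the projection. -/
theorem eq_proj_of_norm (hR : ∀ α ∈ R, ∀ β ∈ R, Cfsg.classInner α β = if α = β then 1 else 0)
    (v : G → ℂ)
    (h : Cfsg.classInner v v = ((∑ α ∈ R, ‖Cfsg.classInner v α‖ ^ 2 : ℝ) : ℂ)) : v = proj R v := by
  obtain ⟨h1, h2⟩ := proj_norm hR v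
  refine sub_eq_zero.mp (classInner_self_eq_zero.mp ?_)
  have h3 : Cfsg.classInner (proj R v) v = ((∑ α ∈ R, ‖Cfsg.classInner v α‖ ^ 2 : ℝ) : ℂ) := by
    rw [← classInner_conj_symm, h2, Complex.conj_ofReal]
  rw [classInner_sub_left, classInner_sub_right, classInner_sub_right, h, h1, h2, h3]
  ring

end Proj

section Orth

variable {G : Type v} [Group G] [Fintype G]

/-- `pα − qβ ⊥ uγ − vδ` with balanced degrees forces `α ⊥ γ`. -/
theorem signed_orth2 {α β γ δ : G → ℂ} (hα : Signed α) (hβ : Signed β) (hγ : Signed γ)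
    (hδ : Signed δ) {p q u v : ℝ} (hp : p ≠ 0) (hu : u ≠ 0) (hv : v ≠ 0)
    (hab : Cfsg.classInner α β = 0) (hcd : Cfsg.classInner γ δ = 0)
    (hmix : Cfsg.classInner ((p : ℂ) • α - (q : ℂ) • β) ((u : ℂ) • γ - (v : ℂ) • δ) = 0)
    (h1 : (p : ℂ) * α 1 = (q : ℂ) * β 1) (h2 : (u : ℂ) * γ 1 = (v : ℂ) * δ 1) :
    Cfsg.classInner α γ = 0 := by
  rcases Signed.inner_eq hα hγ with h | ⟨s, hs, hαγ, hsv, hsc⟩
  · exact h
  exfalso
  have hs0 : s ≠ 0 := fun h0 => by simp [h0] at hs
  have hp' : (p : ℂ) ≠ 0 := by exact_mod_cast hp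
  have hu' : (u : ℂ) ≠ 0 := by exact_mod_cast hu
  have hγα : γ = s • α := by rw [hαγ, smul_smul, ← sq, hs, one_smul]
  have had : Cfsg.classInner α δ = 0 := by rw [hαγ, classInner_smul_left, hcd, mul_zero]
  have hbc : Cfsg.classInner β γ = 0 := by
    rw [hγα, classInner_smul_right, ← classInner_conj_symm α β, hab, map_zero, mul_zero]
  simp only [classInner_sub_left, classInner_sub_right, classInner_smul_left, classInner_smul_right,
    Complex.conj_ofReal, hsv, had, hbc] at hmix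
  rcases Signed.inner_eq hβ hδ with h0 | ⟨t, ht, hβδ, htv, -⟩
  · rw [h0] at hmix
    have h3 : (p : ℂ) * u * s = 0 := by linear_combination hmix
    exact (mul_ne_zero (mul_ne_zero hp' hu') hs0) h3
  · rw [htv] at hmix
    have e1 : α 1 = s * γ 1 := congrFun hαγ 1
    have e2 : β 1 = t * δ 1 := congrFun hβδ 1
    rw [e1, e2] at h1
    have h4 : ((p : ℂ) * s * v - (q : ℂ) * t * u) * δ 1 = 0 := by
      linear_combination (u : ℂ) * h1 - (p : ℂ) * s * h2
    have h5 := (mul_eq_zero.mp h4).resolve_right hδ.one_ne_zero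
    have h6 : ((p : ℂ) ^ 2 + (q : ℂ) ^ 2) * (u * v) = 0 := by
      linear_combination (p : ℂ) * s * v * hmix - (q : ℂ) * t * v * h5 -
        (p : ℂ) ^ 2 * u * v * hs - (q : ℂ) ^ 2 * u * v * ht
    have h7 : (p ^ 2 + q ^ 2) * (u * v) = 0 := by exact_mod_cast h6
    rcases mul_eq_zero.mp h7 with h8 | h8
    · nlinarith [sq_nonneg q, sq_pos_of_ne_zero hp]
    · exact (mul_ne_zero hu hv) h8

end Orth

end Cfsg.Agent.H43
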