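import Mathlib
import Cfsg.Prelude.Def_Characters

/-!
Linear characters of a finite cyclic group, and the decomposition along two complementary subgroups.
-/

set_option autoImplicit false

open scoped ComplexConjugate

namespace Cfsg.Agent.H43

universe u

variable {W : Type u} [Group W] [Finite W]

noncomputable instance fintypeLinearChar : Fintype (W →* ℂˣ) := Fintype.ofFinite _

theorem linear_norm (ω : W →* ℂˣ) (w : W) : ‖(ω w : ℂ)‖ = 1 := by
  refine Complex.norm_eq_one_of_pow_eq_one (n := orderOf w) ?_ (orderOf_pos w).ne'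
  rw [← Units.val_pow_eq_pow_val, ← map_pow, pow_orderOf_eq_one, map_one, Units.val_one]

theorem linear_conj (ω : W →* ℂˣ) (w : W) : conj (ω w : ℂ) = (ω w⁻¹ : ℂ) := by
  rw [← Complex.inv_eq_conj (linear_norm ω w), map_inv, Units.val_inv_eq_inv_val]

open scoped Classical in
theorem linear_orth [Fintype W] (ω η : W →* ℂˣ) :
    Cfsg.classInner (fun w => (ω w : ℂ)) (fun w => (η w : ℂ)) = if ω = η then 1 else 0 := by
  unfold Cfsg.classInner
  have hsum : ∑ w : W, (ω w : ℂ) * conj (η w : ℂ)
      = if ω = η then (Fintype.card W : ℂ) else 0 := by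
    have h : ∀ w : W, (ω w : ℂ) * conj (η w : ℂ)
        = ((Units.coeHom ℂ).comp (ω * η⁻¹)) w := by
      intro w
      rw [linear_conj, map_inv]
      simp
    simp only [h]
    rw [sum_hom_units ((Units.coeHom ℂ).comp (ω * η⁻¹))]
    have hiff : ((Units.coeHom ℂ).comp (ω * η⁻¹) = 1) ↔ ω = η := by
      constructor
      · intro h1
        ext w
        have := DFunLike.congr_fun h1 w
        simp only [MonoidHom.coe_comp, Function.comp_apply, Units.coeHom_apply,
          MonoidHom.mul_apply, MonoidHom.inv_apply, MonoidHom.one_apply, Units.val_mul,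
          Units.val_inv_eq_inv_val] at this
        exact eq_of_mul_inv_eq_one this |>.trans rfl
      · rintro rfl
        ext w
        simp
    simp [hiff]
  rw [hsum]
  split_ifs
  · rw [Nat.card_eq_fintype_card, inv_mul_cancel₀ (Nat.cast_ne_zero.2 Fintype.card_ne_zero)]
  · rw [mul_zero]

/-- For a cyclic (indeed any abelian) group the linear characters trivial on a subgroup separate
its complement. -/
theorem exists_linear_ne_one [IsCyclic W] (S : Subgroup W) {x : W} (hx : x ∉ S) :
    ∃ φ : W →* ℂˣ, (∀ y ∈ S, φ y = 1) ∧ φ x ≠ 1 := by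
  letI : CommGroup W := IsCyclic.commGroup
  haveI : NeZero (Monoid.exponent W : ℂ) := ⟨Nat.cast_ne_zero.mpr Monoid.exponent_ne_zero_of_finite⟩
  by_contra h
  push Not at h
  exact hx ((CommGroup.forall_monoidHom_apply_eq_one_iff ℂ S x).mp h)

open scoped Classical in
theorem sum_linear_trivial_on [IsCyclic W] (S : Subgroup W) (x : W) :
    ∑ φ ∈ (Finset.univ.filter fun φ : W →* ℂˣ => ∀ y ∈ S, φ y = 1), (φ x : ℂ)
      = if x ∈ S then ((Finset.univ.filter fun φ : W →* ℂˣ => ∀ y ∈ S, φ y = 1).card : ℂ) else 0 := by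
  split_ifs with hx
  · rw [Finset.sum_congr rfl (g := fun _ => (1 : ℂ)) (fun φ hφ => by
      rw [(Finset.mem_filter.mp hφ).2 x hx, Units.val_one])]
    simp
  · obtain ⟨φ₀, hφ₀, hx₀⟩ := exists_linear_ne_one S hx
    set s := Finset.univ.filter fun φ : W →* ℂˣ => ∀ y ∈ S, φ y = 1
    have h : ∑ φ ∈ s, (φ x : ℂ) = (φ₀ x : ℂ) * ∑ φ ∈ s, (φ x : ℂ) := by
      rw [Finset.mul_sum]
      refine Finset.sum_nbij' (fun φ => φ₀⁻¹ * φ) (fun φ => φ₀ * φ) ?_ ?_ ?_ ?_ ?_
      · intro φ hφ
        simp only [s, Finset.mem_filter, Finset.mem_univ, true_and] at hφ ⊢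
        intro y hy; simp [hφ y hy, hφ₀ y hy]
      · intro φ hφ
        simp only [s, Finset.mem_filter, Finset.mem_univ, true_and] at hφ ⊢
        intro y hy; simp [hφ y hy, hφ₀ y hy]
      · intro φ _; exact mul_inv_cancel_left φ₀ φ
      · intro φ _; exact inv_mul_cancel_left φ₀ φ
      · intro φ _
        simp [Units.val_inv_eq_inv_val]
    have h' : ((φ₀ x : ℂ) - 1) * ∑ φ ∈ s, (φ x : ℂ) = 0 := by rw [sub_mul, one_mul, ← h, sub_self]
    refine (mul_eq_zero.mp h').resolve_left ?_
    rw [sub_eq_zero]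
    exact fun h1 => hx₀ (Units.ext h1)

end Cfsg.Agent.H43
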