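import Mathlib
import Cfsg.Prelude.Def_Characters
import Cfsg.Agent.CharBasic.Complete
import Cfsg.Agent.CharInduce.Function
import Cfsg.Agent.H43.Virtual

/-!
Irreducibility by norm, conjugates of characters of a normal subgroup, and the permutation lemma in its
counting form.
-/

set_option autoImplicit false

open scoped ComplexConjugate

namespace Cfsg.Agent.H43

open Cfsg.Agent

universe u

variable {G : Type u} [Group G]

theorem irr_of_signed_pos {θ : G → ℂ} (h : Signed θ) {r : ℕ} (hr : θ 1 = r) :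
    Cfsg.IsIrrCharacter G θ := by
  rcases h with h | h
  · exact h
  · obtain ⟨m, hm, hm'⟩ := CharBasic.IsIrr.exists_degree h
    rw [Pi.neg_apply, hr] at hm'
    have : ((m + r : ℕ) : ℂ) = 0 := by push_cast; rw [← hm']; ring
    exact absurd (Nat.cast_eq_zero.mp this) (by omega)

theorem char_comp {H : Type*} [Group H] (f : H →* G) {χ : G → ℂ} (hχ : Cfsg.IsCharacter G χ) :
    Cfsg.IsCharacter H (fun h => χ (f h)) := by
  obtain ⟨n, ρ, rfl⟩ := hχ
  exact ⟨n, ρ.comp f, rfl⟩

variable (N : Subgroup G) [hN : N.Normal]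

theorem conjFun_irr [Finite G] {φ : N → ℂ} (hφ : Cfsg.IsIrrCharacter N φ) (x : G) :
    Cfsg.IsIrrCharacter N (CharInduce.conjFun N φ x) := by
  haveI : Fintype N := Fintype.ofFinite _
  have hc : Cfsg.IsCharacter N (CharInduce.conjFun N φ x) :=
    char_comp (MulAut.conjNormal x : MulAut N).toMonoidHom (CharBasic.IsIrr.isCharacter hφ)
  have hn : Cfsg.classInner (CharInduce.conjFun N φ x) (CharInduce.conjFun N φ x) = 1 := by
    rw [← CharBasic.classInner_irr_self hφ]
    simp only [Cfsg.classInner]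
    congr 1
    exact Fintype.sum_equiv (MulAut.conjNormal x : MulAut N).toEquiv _ _ fun n => rfl
  obtain ⟨r, hr⟩ := CharBasic.IsChar.exists_degree hc
  exact irr_of_signed_pos (signed_of_norm_one (gen_of_char hc) hn) hr

open scoped Classical in
/-- The number of irreducible characters of `N` fixed by `x`, times `|N|`. -/
theorem perm_count [Fintype G] (x : G) :
    ((Finset.univ.filter fun φ : Cfsg.IrrCharacter N =>
        CharInduce.conjFun N (φ : N → ℂ) x = (φ : N → ℂ)).card : ℂ) * (Nat.card N : ℂ)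
      = ∑ n : N, (Nat.card {k : N // (k : G) * n * (k : G)⁻¹ = x * n * x⁻¹} : ℂ) := by
  have h1 : ∀ φ : Cfsg.IrrCharacter N,
      Cfsg.classInner (CharInduce.conjFun N (φ : N → ℂ) x) (φ : N → ℂ)
        = if CharInduce.conjFun N (φ : N → ℂ) x = (φ : N → ℂ) then 1 else 0 :=
    fun φ => CharBasic.classInner_irr (conjFun_irr N φ.2 x) φ.2
  have h2 : ((Finset.univ.filter fun φ : Cfsg.IrrCharacter N =>
        CharInduce.conjFun N (φ : N → ℂ) x = (φ : N → ℂ)).card : ℂ)
      = ∑ φ : Cfsg.IrrCharacter N, Cfsg.classInner (CharInduce.conjFun N (φ : N → ℂ) x) (φ : N → ℂ) := by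
    simp only [h1, Finset.sum_boole]
  rw [h2]
  simp only [CharBasic.classInner_def, ← Finset.mul_sum]
  rw [mul_comm, ← mul_assoc, mul_inv_cancel₀ (CharInduce.card_ne_zero_complex _), one_mul,
    Finset.sum_comm]
  refine Finset.sum_congr rfl fun n _ => ?_
  simp only [CharInduce.conjFun]
  rw [CharBasic.second_orthogonality_count]
  congr 1
  refine Nat.card_congr (Equiv.subtypeEquivRight fun k => ?_)
  rw [Subtype.ext_iff]
  rfl

end Cfsg.Agent.H43
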