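import Mathlib
import Cfsg.Prelude.Def_Characters
import Cfsg.Agent.CharBasic.Orth
import Cfsg.Agent.H43.Virtual
import Cfsg.Agent.H43.Irreducible

/-!
Field automorphisms of `ℂ` acting on roots of unity and on character values.
-/

set_option autoImplicit false

open scoped ComplexConjugate

namespace Cfsg.Agent.H43

open Cfsg.Agent

universe u

/-- An automorphism of the field of algebraic numbers extends to `ℂ`. -/
theorem exists_aut_extend (τ : algebraicClosure ℚ ℂ ≃ₐ[ℚ] algebraicClosure ℚ ℂ) :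
    ∃ σ : ℂ ≃+* ℂ, ∀ x : algebraicClosure ℚ ℂ, σ (x : ℂ) = (τ x : ℂ) := by
  obtain ⟨ι, v, hv⟩ := exists_isTranscendenceBasis' (algebraicClosure ℚ ℂ) ℂ
  haveI hcl : IsAlgClosure (Algebra.adjoin (algebraicClosure ℚ ℂ) (Set.range v)) ℂ :=
    IsAlgClosed.isAlgClosure_of_transcendence_basis v hv
  let e : Algebra.adjoin (algebraicClosure ℚ ℂ) (Set.range v) ≃+*
      Algebra.adjoin (algebraicClosure ℚ ℂ) (Set.range v) :=
    (hv.1.aevalEquiv.symm.toRingEquiv.trans
      (MvPolynomial.mapEquiv _ τ.toRingEquiv)).trans hv.1.aevalEquiv.toRingEquiv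
  refine ⟨IsAlgClosure.equivOfEquiv ℂ ℂ e, fun x => ?_⟩
  have h := IsAlgClosure.equivOfEquiv_algebraMap ℂ ℂ e
    (algebraMap (algebraicClosure ℚ ℂ) _ x)
  have he : e (algebraMap (algebraicClosure ℚ ℂ) _ x) = algebraMap (algebraicClosure ℚ ℂ) _ (τ x) := by
    show hv.1.aevalEquiv (MvPolynomial.map (τ.toRingEquiv : _ →+* _)
      (hv.1.aevalEquiv.symm (algebraMap _ _ x))) = _
    rw [AlgEquiv.commutes, MvPolynomial.algebraMap_eq, MvPolynomial.map_C,
      ← MvPolynomial.algebraMap_eq, AlgEquiv.commutes]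
    rfl
  rw [he] at h
  exact h

/-- Every exponent prime to `n` is realised on `n`-th roots of unity. -/
theorem exists_aut_pow {n k : ℕ} (hn : n ≠ 0) (hk : k.Coprime n) :
    ∃ σ : ℂ ≃+* ℂ, ∀ z : ℂ, z ^ n = 1 → σ z = z ^ k := by
  haveI : NeZero n := ⟨hn⟩
  haveI : IsAlgClosure ℚ (algebraicClosure ℚ ℂ) := algebraicClosure.isAlgClosure ℚ ℂ
  haveI : Normal ℚ (algebraicClosure ℚ ℂ) := IsAlgClosure.normal ℚ _
  have hζ := Complex.isPrimitiveRoot_exp n hn
  set ζ := Complex.exp (2 * Real.pi * Complex.I / n) with hζdef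
  have hint : IsIntegral ℚ ζ := (hζ.isIntegral (Nat.pos_of_ne_zero hn)).tower_top
  let x : algebraicClosure ℚ ℂ := ⟨ζ, mem_algebraicClosure_iff'.mpr hint⟩
  have hx : IsPrimitiveRoot x n :=
    IsPrimitiveRoot.of_map_of_injective (f := (algebraicClosure ℚ ℂ).val) hζ Subtype.val_injective
  have hy : IsPrimitiveRoot (x ^ k) n := hx.pow_of_coprime k hk
  have halg : IsAlgebraic ℚ x := Algebra.IsAlgebraic.isAlgebraic x
  have hroot : Polynomial.aeval (x ^ k) (minpoly ℚ x) = 0 := by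
    rw [← Polynomial.cyclotomic_eq_minpoly_rat hx (Nat.pos_of_ne_zero hn),
      Polynomial.aeval_def, ← Polynomial.eval_map, Polynomial.map_cyclotomic]
    exact hy.isRoot_cyclotomic (Nat.pos_of_ne_zero hn)
  obtain ⟨τ, hτ⟩ := minpoly.exists_algEquiv_of_root halg hroot
  obtain ⟨σ, hσ⟩ := exists_aut_extend τ.symm
  refine ⟨σ, fun z hz => ?_⟩
  obtain ⟨i, -, rfl⟩ := hζ.eq_pow_of_pow_eq_one hz
  have : σ ζ = ζ ^ k := by
    have h := hσ x
    have hsymm : τ.symm x = x ^ k := by rw [← hτ, AlgEquiv.symm_apply_apply, hτ]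
    rw [hsymm] at h
    simpa [x] using h
  rw [map_pow, this, ← pow_mul, ← pow_mul, mul_comm]

/-- An automorphism of `ℂ` acts on `n`-th roots of unity as an exponent prime to `n`. -/
theorem aut_eq_pow (σ : ℂ ≃+* ℂ) {n : ℕ} (hn : n ≠ 0) :
    ∃ k : ℕ, k.Coprime n ∧ ∀ z : ℂ, z ^ n = 1 → σ z = z ^ k := by
  haveI : NeZero n := ⟨hn⟩
  have hζ := Complex.isPrimitiveRoot_exp n hn
  set ζ := Complex.exp (2 * Real.pi * Complex.I / n)
  have h1 : (σ ζ) ^ n = 1 := by rw [← map_pow, hζ.pow_eq_one, map_one]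
  obtain ⟨k, -, hk⟩ := hζ.eq_pow_of_pow_eq_one h1
  have hp : IsPrimitiveRoot (σ ζ) n := hζ.map_of_injective (f := σ.toRingHom) σ.injective
  rw [← hk] at hp
  refine ⟨k, (hζ.pow_iff_coprime (Nat.pos_of_ne_zero hn) k).mp hp, fun z hz => ?_⟩
  obtain ⟨i, -, rfl⟩ := hζ.eq_pow_of_pow_eq_one hz
  rw [map_pow, ← hk, ← pow_mul, ← pow_mul, mul_comm]

/-- An algebraic number fixed by all automorphisms of `ℂ` is rational. -/
theorem rat_of_fixed {z : ℂ} (hz : IsIntegral ℚ z) (h : ∀ σ : ℂ ≃+* ℂ, σ z = z) :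
    ∃ q : ℚ, z = (q : ℂ) := by
  haveI : IsAlgClosure ℚ (algebraicClosure ℚ ℂ) := algebraicClosure.isAlgClosure ℚ ℂ
  haveI : Normal ℚ (algebraicClosure ℚ ℂ) := IsAlgClosure.normal ℚ _
  haveI : IsGalois ℚ (algebraicClosure ℚ ℂ) := ⟨⟩
  let x : algebraicClosure ℚ ℂ := ⟨z, mem_algebraicClosure_iff'.mpr hz⟩
  have hb : x ∈ (⊥ : IntermediateField ℚ (algebraicClosure ℚ ℂ)) := by
    rw [InfiniteGalois.mem_bot_iff_fixed]
    intro τ
    obtain ⟨σ, hσ⟩ := exists_aut_extend τ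
    exact Subtype.ext (((hσ x).symm.trans (h σ)))
  obtain ⟨q, hq⟩ := IntermediateField.mem_bot.mp hb
  refine ⟨q, ?_⟩
  have := congrArg Subtype.val hq
  simpa [x] using this.symm

/-- A rational algebraic integer is an integer. -/
theorem int_of_rat_integral {z : ℂ} (hz : IsIntegral ℤ z) {q : ℚ} (hq : z = (q : ℂ)) :
    ∃ n : ℤ, z = n := by
  subst hq
  have h : IsIntegral ℤ q := by
    rw [← isIntegral_algHom_iff ((Rat.castHom ℂ).toIntAlgHom) Rat.cast_injective]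
    exact hz
  obtain ⟨n, hn⟩ := IsIntegrallyClosed.isIntegral_iff.mp h
  exact ⟨n, by rw [← hn]; simp⟩

variable {G : Type u} [Group G]

theorem aut_char (σ : ℂ ≃+* ℂ) {χ : G → ℂ} (hχ : Cfsg.IsCharacter G χ) :
    Cfsg.IsCharacter G (fun g => σ (χ g)) := by
  obtain ⟨n, ρ, rfl⟩ := hχ
  let ρ' : Representation ℂ G (Fin n → ℂ) :=
    { toFun := fun g => Matrix.toLin' ((LinearMap.toMatrix' (ρ g)).map σ)
      map_one' := by simp [Module.End.one_eq_id]
      map_mul' := fun a b => by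
        rw [map_mul, Module.End.mul_eq_comp, LinearMap.toMatrix'_comp,
          show (LinearMap.toMatrix' (ρ a) * LinearMap.toMatrix' (ρ b)).map σ =
            (LinearMap.toMatrix' (ρ a)).map σ * (LinearMap.toMatrix' (ρ b)).map σ from
            Matrix.map_mul (f := σ.toRingHom), Matrix.toLin'_mul]
        rfl }
  refine ⟨n, ρ', funext fun g => ?_⟩
  show LinearMap.trace ℂ _ (Matrix.toLin' ((LinearMap.toMatrix' (ρ g)).map σ)) = σ (ρ.character g)
  rw [Matrix.trace_toLin'_eq, Representation.character, ← Matrix.toLin'_toMatrix' (ρ g),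
    Matrix.trace_toLin'_eq, Matrix.toLin'_toMatrix']
  exact (AddMonoidHom.map_trace σ.toRingHom.toAddMonoidHom _).symm

theorem aut_irr [Finite G] (σ : ℂ ≃+* ℂ) {χ : G → ℂ} (hχ : Cfsg.IsIrrCharacter G χ) :
    Cfsg.IsIrrCharacter G (fun g => σ (χ g)) := by
  cases nonempty_fintype G
  have hc := aut_char σ (CharBasic.IsIrr.isCharacter hχ)
  have hn : Cfsg.classInner (fun g => σ (χ g)) (fun g => σ (χ g)) = 1 := by
    have h1 := congrArg σ (CharBasic.classInner_irr_self hχ)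
    rw [map_one] at h1
    rw [← h1]
    simp only [Cfsg.classInner, map_mul, map_inv₀, map_natCast, map_sum]
    congr 1
    refine Finset.sum_congr rfl fun g _ => ?_
    rw [← CharBasic.IsChar.inv_apply hc g, CharBasic.IsChar.inv_apply (CharBasic.IsIrr.isCharacter hχ) g |>.symm]
  obtain ⟨r, hr⟩ := CharBasic.IsChar.exists_degree hc
  exact irr_of_signed_pos (signed_of_norm_one (gen_of_char hc) hn) hr

theorem aut_signed [Finite G] (σ : ℂ ≃+* ℂ) {χ : G → ℂ} (hχ : Signed χ) :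
    Signed (fun g => σ (χ g)) := by
  rcases hχ with h | h
  · exact Or.inl (aut_irr σ h)
  · right
    have := aut_irr σ h
    convert this using 1
    funext g
    simp

/-- Two automorphisms agreeing on the `orderOf g`-th roots of unity agree on `θ g`. -/
theorem aut_eq_on_value [Finite G] {θ : G → ℂ} (hθ : Cfsg.IsGeneralizedCharacter G θ) (g : G)
    (σ σ' : ℂ ≃+* ℂ) (h : ∀ z : ℂ, z ^ orderOf g = 1 → σ z = σ' z) : σ (θ g) = σ' (θ g) := by
  have key : ∀ χ : G → ℂ, Cfsg.IsCharacter G χ → σ (χ g) = σ' (χ g) := by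
    rintro χ ⟨n, ρ, rfl⟩
    obtain ⟨b, μ, -, hμ, hv⟩ := CharBasic.exists_eigenbasis_rep ρ g
    rw [hv, map_sum, map_sum]
    exact Finset.sum_congr rfl fun i _ => h _ (hμ i)
  obtain ⟨χ, ψ, hχ, hψ, rfl⟩ := hθ
  simp only [Pi.sub_apply, map_sub, key χ hχ, key ψ hψ]

end Cfsg.Agent.H43
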