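import Mathlib
import Cfsg.Prelude.Def_Characters
import Cfsg.Agent.CharBasic.Rep
import Cfsg.Agent.CharBasic.Orth

/-!
Averages over a normalised subgroup: the trace on the fixed space is a character, and over a coset `K·a` with
`a` acting coprimely the average of a class function equals its average over `C_K(a)·a`.
-/

set_option autoImplicit false

namespace Cfsg.Agent.H43

universe u

variable {G : Type u} [Group G]

open Classical in
/-- The trace on the `K`-fixed space is a character of any subgroup normalising `K`. -/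
theorem isCharacter_avg [Fintype G] {χ : G → ℂ} (hχ : Cfsg.IsCharacter G χ) (K N : Subgroup G)
    (hN : ∀ l ∈ N, ∀ k ∈ K, l * k * l⁻¹ ∈ K) :
    Cfsg.IsCharacter N (fun l : N => (Nat.card K : ℂ)⁻¹ * ∑ k : K, χ ((k : G) * l)) := by
  obtain ⟨n, ρ, rfl⟩ := hχ
  let W : Submodule ℂ (Fin n → ℂ) :=
    { carrier := {v | ∀ k ∈ K, ρ k v = v}
      add_mem' := fun {a b} ha hb k hk => by rw [map_add, ha k hk, hb k hk]
      zero_mem' := fun k _ => map_zero _
      smul_mem' := fun c {a} ha k hk => by rw [map_smul, ha k hk] }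
  have hWinv : ∀ l ∈ N, ∀ v ∈ W, ρ l v ∈ W := by
    intro l hl v hv k hk
    have hk' : l⁻¹ * k * l ∈ K := by simpa using hN l⁻¹ (inv_mem hl) k hk
    have e : k * l = l * (l⁻¹ * k * l) := by group
    rw [← Module.End.mul_apply, ← map_mul, e, map_mul, Module.End.mul_apply, hv _ hk']
  let σ : Representation ℂ N W :=
    { toFun := fun l => (ρ (l : G)).restrict (fun v hv => hWinv _ l.2 v hv)
      map_one' := by ext v; simp
      map_mul' := fun a b => by ext v; simp }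
  let P : Module.End ℂ (Fin n → ℂ) := (Nat.card K : ℂ)⁻¹ • ∑ k : K, ρ (k : G)
  have hP1 : ∀ v, P v ∈ W := by
    intro v k hk
    have e : ∑ j : K, ρ k (ρ (j : G) v) = ∑ j : K, ρ (j : G) v :=
      Fintype.sum_equiv (Equiv.mulLeft (⟨k, hk⟩ : K)) _ _ (fun j => by simp)
    simp [P, e]
  have hP2 : ∀ v ∈ W, P v = v := by
    intro v hv
    have hne : (Nat.card K : ℂ) ≠ 0 := Nat.cast_ne_zero.mpr Nat.card_pos.ne'
    simp only [P, LinearMap.smul_apply, LinearMap.sum_apply]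
    rw [Finset.sum_congr rfl fun (k : K) _ => hv k k.2, Finset.sum_const, Finset.card_univ,
      ← Nat.card_eq_fintype_card, ← Nat.cast_smul_eq_nsmul ℂ, smul_smul, inv_mul_cancel₀ hne,
      one_smul]
  have key : (fun l : N => (Nat.card K : ℂ)⁻¹ * ∑ k : K, ρ.character ((k : G) * l)) = σ.character := by
    funext l
    have hf : ∀ v, (ρ (l : G) * P) v ∈ W := fun v => hWinv _ l.2 _ (hP1 v)
    have e1 : (ρ (l : G) * P).restrict (fun v (_ : v ∈ W) => hf v) = σ l := by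
      ext v
      simp [σ, hP2 _ v.2]
    rw [Representation.character, ← e1, LinearMap.trace_restrict_eq_of_forall_mem _ _ hf]
    simp only [P, Finset.mul_sum, Finset.smul_sum, mul_smul_comm, map_sum, map_smul, smul_eq_mul]
    refine Finset.sum_congr rfl fun k _ => ?_
    rw [Representation.character, map_mul]
    congr 1
    exact LinearMap.trace_mul_comm ℂ (ρ (k : G)) (ρ (l : G))
  rw [key]
  exact CharBasic.isCharacter_character σ

open Classical in
/-- Coprime coset lemma: the coset `K·a` consists of `K`-conjugates of `C_K(a)·a`. -/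
theorem sum_coset_coprime [Fintype G] {R : Type*} [CommRing R] (K : Subgroup G) (a : G)
    (hKa : ∀ k ∈ K, a * k * a⁻¹ ∈ K) (hco : Nat.Coprime (Nat.card K) (orderOf a))
    (f : G → R) (hf : ∀ g h : G, f (h * g * h⁻¹) = f g) :
    (Nat.card K : R) * ∑ c ∈ Finset.univ.filter (fun c => c ∈ K ∧ Commute c a), f (c * a)
      = ((Finset.univ.filter (fun c => c ∈ K ∧ Commute c a)).card : R) *
          ∑ k ∈ Finset.univ.filter (· ∈ K), f (k * a) := by
  set C := Finset.univ.filter (fun c => c ∈ K ∧ Commute c a) with hC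
  set Ks := Finset.univ.filter (· ∈ K) with hKs
  have hmemC : ∀ {c}, c ∈ C ↔ c ∈ K ∧ Commute c a := fun {c} => by simp [hC]
  have hmemK : ∀ {c}, c ∈ Ks ↔ c ∈ K := fun {c} => by simp [hKs]
  obtain ⟨e, he0, he1⟩ := Nat.chineseRemainder hco 0 1
  have hpow : ∀ {c}, c ∈ C → (c * a) ^ e = a := by
    intro c hc
    obtain ⟨hcK, hca⟩ := hmemC.mp hc
    have h1 : c ^ e = 1 := by
      have hoc : orderOf c ∣ Nat.card K := by
        simpa [Subgroup.orderOf_mk] using orderOf_dvd_natCard (⟨c, hcK⟩ : K)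
      simpa using pow_eq_pow_iff_modEq.mpr (he0.of_dvd hoc)
    have h2 : a ^ e = a := by simpa using pow_eq_pow_iff_modEq.mpr he1
    rw [hca.mul_pow, h1, h2, one_mul]
  let Ψ : G × G → G := fun p => p.1 * p.2 * (a * p.1⁻¹ * a⁻¹)
  have hΨmem : ∀ p ∈ Ks ×ˢ C, Ψ p ∈ Ks := by
    rintro ⟨k, c⟩ hp
    obtain ⟨hk, hc⟩ := Finset.mem_product.mp hp
    exact hmemK.mpr (mul_mem (mul_mem (hmemK.mp hk) (hmemC.mp hc).1) (hKa _ (inv_mem (hmemK.mp hk))))
  have hfib : ∀ h ∈ (Ks ×ˢ C).image Ψ, ((Ks ×ˢ C).filter (fun p => Ψ p = h)).card = C.card := by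
    intro h hh
    obtain ⟨⟨k₀, c₀⟩, hp₀, rfl⟩ := Finset.mem_image.mp hh
    obtain ⟨hk₀, hc₀⟩ := Finset.mem_product.mp hp₀
    refine Finset.card_bij (fun p _ => k₀⁻¹ * p.1) ?_ ?_ ?_
    · rintro ⟨k, c⟩ hp
      obtain ⟨hp', hpe⟩ := Finset.mem_filter.mp hp
      obtain ⟨hk, hc⟩ := Finset.mem_product.mp hp'
      have e2 : k * (c * a) * k⁻¹ = k₀ * (c₀ * a) * k₀⁻¹ := by
        have := congrArg (· * a) hpe
        simpa [Ψ, mul_assoc] using this
      have e3 := congrArg (· ^ e) e2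
      simp only [conj_pow, hpow hc, hpow hc₀] at e3
      refine hmemC.mpr ⟨mul_mem (inv_mem (hmemK.mp hk₀)) (hmemK.mp hk), ?_⟩
      calc k₀⁻¹ * k * a = k₀⁻¹ * (k * a * k⁻¹) * k := by group
        _ = k₀⁻¹ * (k₀ * a * k₀⁻¹) * k := by rw [e3]
        _ = a * (k₀⁻¹ * k) := by group
    · rintro ⟨k, c⟩ hp ⟨k', c'⟩ hp' he
      have hk : k = k' := mul_left_cancel he
      subst hk
      have h1 := (Finset.mem_filter.mp hp).2.trans (Finset.mem_filter.mp hp').2.symm
      simp only [Ψ] at h1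
      rw [mul_left_cancel (mul_right_cancel h1)]
    · intro d hd
      obtain ⟨hdK, hda⟩ := hmemC.mp hd
      obtain ⟨hc₀K, hc₀a⟩ := hmemC.mp hc₀
      refine ⟨(k₀ * d, d⁻¹ * c₀ * d), Finset.mem_filter.mpr ⟨Finset.mem_product.mpr
        ⟨hmemK.mpr (mul_mem (hmemK.mp hk₀) hdK),
         hmemC.mpr ⟨mul_mem (mul_mem (inv_mem hdK) hc₀K) hdK, ((hda.inv_left).mul_left hc₀a).mul_left hda⟩⟩,
        ?_⟩, by simp⟩
      show k₀ * d * (d⁻¹ * c₀ * d) * (a * (k₀ * d)⁻¹ * a⁻¹) = k₀ * c₀ * (a * k₀⁻¹ * a⁻¹)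
      calc k₀ * d * (d⁻¹ * c₀ * d) * (a * (k₀ * d)⁻¹ * a⁻¹)
          = k₀ * c₀ * ((d * a) * d⁻¹ * k₀⁻¹ * a⁻¹) := by group
        _ = k₀ * c₀ * ((a * d) * d⁻¹ * k₀⁻¹ * a⁻¹) := by rw [hda.eq]
        _ = _ := by group
  have himg : (Ks ×ˢ C).image Ψ = Ks := by
    refine Finset.eq_of_subset_of_card_le (fun h hh => ?_) ?_
    · obtain ⟨p, hp, rfl⟩ := Finset.mem_image.mp hh
      exact hΨmem p hp
    · have h1 := Finset.card_eq_sum_card_image Ψ (Ks ×ˢ C)
      rw [Finset.sum_congr rfl hfib, Finset.sum_const, smul_eq_mul, Finset.card_product] at h1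
      have hpos : 0 < C.card := Finset.card_pos.mpr ⟨1, hmemC.mpr ⟨one_mem _, Commute.one_left _⟩⟩
      exact (Nat.eq_of_mul_eq_mul_right hpos h1).le
  have hcard : (Ks.card : R) = (Nat.card K : R) := by
    rw [hKs, ← Fintype.card_subtype, ← Nat.card_eq_fintype_card]
  have h2 : ∑ p ∈ Ks ×ˢ C, f (Ψ p * a) = (C.card : R) * ∑ h ∈ Ks, f (h * a) := by
    rw [← Finset.sum_fiberwise_of_maps_to (g := Ψ) hΨmem, Finset.mul_sum]
    refine Finset.sum_congr rfl fun h hh => ?_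
    rw [Finset.sum_congr rfl (fun p hp => by rw [(Finset.mem_filter.mp hp).2]), Finset.sum_const,
      nsmul_eq_mul, hfib h (himg.symm ▸ hh)]
  have h3 : ∑ p ∈ Ks ×ˢ C, f (Ψ p * a) = (Nat.card K : R) * ∑ c ∈ C, f (c * a) := by
    rw [Finset.sum_product, ← hcard]
    rw [show (Ks.card : R) * ∑ c ∈ C, f (c * a) = ∑ _k ∈ Ks, ∑ c ∈ C, f (c * a) by
      rw [Finset.sum_const, nsmul_eq_mul]]
    refine Finset.sum_congr rfl fun k _ => Finset.sum_congr rfl fun c _ => ?_
    rw [← hf (c * a) k]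
    congr 1
    simp only [Ψ]; group
  rw [← h3, h2]

end Cfsg.Agent.H43
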