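import Mathlib
import Cfsg.Prelude.Def_OddOrderChar

/-!
Basic facts about the Dade hypothesis: uniqueness of the supporting subgroups, the separation of the
cosets `a·H(a)`, and the counting identity over their conjugates.
-/

set_option autoImplicit false

namespace Cfsg.Agent.H43

universe u

variable {G : Type u} [Group G] {A : Set G} {L : Subgroup G} {H : G → Subgroup G}

lemma dade_commute (hD : Cfsg.DadeHypothesis A L H) {a u : G} (ha : a ∈ A) (hu : u ∈ H a) :
    Commute a u :=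
  (Subgroup.mem_centralizer_singleton_iff.mp (hD.le_centralizer a ha hu)).symm

lemma dade_mem_sup (hD : Cfsg.DadeHypothesis A L H) {a v : G} (ha : a ∈ A)
    (hv : v ∈ Subgroup.centralizer ({a} : Set G)) :
    ∃ h ∈ H a, ∃ c ∈ L, c ∈ Subgroup.centralizer ({a} : Set G) ∧ v = h * c := by
  have hle : L ⊓ Subgroup.centralizer ({a} : Set G) ≤ Subgroup.normalizer (H a : Set G) := by
    intro c hc
    rw [Subgroup.mem_normalizer_iff]
    intro x
    refine ⟨fun hx => hD.conj_mem_H a ha c hc.2 x hx, fun hx => ?_⟩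
    have := hD.conj_mem_H a ha c⁻¹ (inv_mem hc.2) _ hx
    simpa [mul_assoc] using this
  rw [← hD.sup_eq a ha, ← SetLike.mem_coe,
    Subgroup.coe_mul_of_right_le_normalizer_left _ _ hle] at hv
  obtain ⟨h, hh, c, hc, rfl⟩ := Set.mem_mul.mp hv
  exact ⟨h, hh, c, hc.1, hc.2, rfl⟩

/-- An exponent `k` that fixes every `a ∈ A` and kills every `H a`. -/
lemma dade_exponent [Finite G] (hD : Cfsg.DadeHypothesis A L H) :
    ∃ k : ℕ, ∀ a ∈ A, a ^ k = a ∧
      ∀ v ∈ Subgroup.centralizer ({a} : Set G), (v ^ k = 1 ↔ v ∈ H a) := by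
  classical
  haveI : Fintype G := Fintype.ofFinite G
  let As : Finset G := Finset.univ.filter (· ∈ A)
  let m : ℕ := ∏ b ∈ As, Nat.card ↥(L ⊓ Subgroup.centralizer ({b} : Set G))
  let n : ℕ := ∏ a ∈ As, Nat.card (H a)
  have hmn : Nat.Coprime n m :=
    Nat.Coprime.prod_left fun a ha => Nat.Coprime.prod_right fun b hb =>
      hD.coprime a (by simpa [As] using ha) b (by simpa [As] using hb)
  obtain ⟨k, hk0, hk1⟩ := Nat.chineseRemainder hmn 0 1
  refine ⟨k, fun a ha => ?_⟩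
  have hm : Nat.card ↥(L ⊓ Subgroup.centralizer ({a} : Set G)) ∣ m :=
    Finset.dvd_prod_of_mem _ (by simpa [As] using ha)
  have hn : Nat.card (H a) ∣ n :=
    Finset.dvd_prod_of_mem (fun a => Nat.card (H a)) (by simpa [As] using ha)
  have hC : ∀ c ∈ L ⊓ Subgroup.centralizer ({a} : Set G), c ^ k = c := by
    intro c hc
    have hoc : orderOf c ∣ Nat.card ↥(L ⊓ Subgroup.centralizer ({a} : Set G)) := by
      simpa [Subgroup.orderOf_mk] using orderOf_dvd_natCard
        (⟨c, hc⟩ : ↥(L ⊓ Subgroup.centralizer ({a} : Set G)))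
    simpa using pow_eq_pow_iff_modEq.mpr (hk1.of_dvd (hoc.trans hm))
  have hH : ∀ u ∈ H a, u ^ k = 1 := by
    intro u hu
    have hou : orderOf u ∣ Nat.card (H a) := by
      simpa [Subgroup.orderOf_mk] using orderOf_dvd_natCard (⟨u, hu⟩ : H a)
    simpa using pow_eq_pow_iff_modEq.mpr (hk0.of_dvd (hou.trans hn))
  refine ⟨hC a ⟨hD.subset ha, Subgroup.mem_centralizer_singleton_iff.mpr rfl⟩, fun v hv => ⟨?_, hH v⟩⟩
  intro hvk
  obtain ⟨h, hh, c, hcL, hcC, rfl⟩ := dade_mem_sup hD ha hv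
  have hpow : ∀ j : ℕ, (h * c) ^ j * (c ^ j)⁻¹ ∈ H a := by
    intro j
    induction j with
    | zero => simp
    | succ j ih =>
      have h1 : (h * c) ^ (j + 1) * (c ^ (j + 1))⁻¹
          = h * (c * ((h * c) ^ j * (c ^ j)⁻¹) * c⁻¹) := by
        rw [pow_succ', pow_succ' c]; group
      rw [h1]
      exact mul_mem hh (hD.conj_mem_H a ha c hcC _ ih)
  have h2 := hpow k
  rw [hvk, one_mul, hC c ⟨hcL, hcC⟩, inv_mem_iff] at h2
  have h3 : c ∈ H a ⊓ (L ⊓ Subgroup.centralizer ({a} : Set G)) := ⟨h2, hcL, hcC⟩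
  rw [hD.inf_eq_bot a ha, Subgroup.mem_bot] at h3
  simpa [h3] using hh

/-- The element `a` is determined by any element of the coset `a·H(a)`. -/
lemma dade_conj_eq [Finite G] (hD : Cfsg.DadeHypothesis A L H) {a b u v g : G} (ha : a ∈ A)
    (hb : b ∈ A) (hu : u ∈ H a) (hv : v ∈ H b) (he : g * (a * u) * g⁻¹ = b * v) :
    g * a * g⁻¹ = b ∧ g * u * g⁻¹ = v := by
  obtain ⟨k, hk⟩ := dade_exponent hD
  have h1 : (a * u) ^ k = a := by
    rw [(dade_commute hD ha hu).mul_pow, (hk a ha).1,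
      ((hk a ha).2 u (hD.le_centralizer a ha hu)).mpr hu, mul_one]
  have h2 : (b * v) ^ k = b := by
    rw [(dade_commute hD hb hv).mul_pow, (hk b hb).1,
      ((hk b hb).2 v (hD.le_centralizer b hb hv)).mpr hv, mul_one]
  have h3 : g * a * g⁻¹ = b := by
    calc g * a * g⁻¹ = g * (a * u) ^ k * g⁻¹ := by rw [h1]
      _ = (g * (a * u) * g⁻¹) ^ k := (conj_pow).symm
      _ = b := by rw [he, h2]
  refine ⟨h3, ?_⟩
  have h4 : g * (a * u) * g⁻¹ = (g * a * g⁻¹) * (g * u * g⁻¹) := by group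
  rw [h4, h3] at he
  exact mul_left_cancel he

/-- The supporting subgroups are equivariant. -/
lemma dade_conj_mem_iff [Finite G] (hD : Cfsg.DadeHypothesis A L H) {a g : G} (ha : a ∈ A)
    (hga : g * a * g⁻¹ ∈ A) (u : G) : g * u * g⁻¹ ∈ H (g * a * g⁻¹) ↔ u ∈ H a := by
  obtain ⟨k, hk⟩ := dade_exponent hD
  constructor
  · intro h
    have hc : u ∈ Subgroup.centralizer ({a} : Set G) := by
      rw [Subgroup.mem_centralizer_singleton_iff]
      have h' := (dade_commute hD hga h).eq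
      have e1 : g * a * g⁻¹ * (g * u * g⁻¹) = g * (a * u) * g⁻¹ := by group
      have e2 : g * u * g⁻¹ * (g * a * g⁻¹) = g * (u * a) * g⁻¹ := by group
      rw [e1, e2] at h'
      exact (mul_left_cancel (mul_right_cancel h')).symm
    apply ((hk a ha).2 u hc).mp
    have h'' := ((hk _ hga).2 _ (hD.le_centralizer _ hga h)).mpr h
    rw [conj_pow, conj_eq_one_iff] at h''
    exact h''
  · intro h
    have hc : g * u * g⁻¹ ∈ Subgroup.centralizer ({g * a * g⁻¹} : Set G) := by
      rw [Subgroup.mem_centralizer_singleton_iff]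
      have h' := (dade_commute hD ha h).eq
      have e1 : g * a * g⁻¹ * (g * u * g⁻¹) = g * (a * u) * g⁻¹ := by group
      have e2 : g * u * g⁻¹ * (g * a * g⁻¹) = g * (u * a) * g⁻¹ := by group
      rw [e1, e2, h']
    apply ((hk _ hga).2 _ hc).mp
    rw [conj_pow, ((hk a ha).2 u (hD.le_centralizer a ha h)).mpr h, mul_one, mul_inv_cancel]

lemma dade_H_conj [Finite G] (hD : Cfsg.DadeHypothesis A L H) {a g : G} (ha : a ∈ A)
    (hga : g * a * g⁻¹ ∈ A) : H (g * a * g⁻¹) = (H a).map (MulAut.conj g).toMonoidHom := by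
  ext v
  rw [Subgroup.mem_map]
  constructor
  · intro hv
    refine ⟨g⁻¹ * v * g, ?_, ?_⟩
    · rw [← dade_conj_mem_iff hD ha hga]
      simpa [mul_assoc] using hv
    · show g * (g⁻¹ * v * g) * g⁻¹ = v
      group
  · rintro ⟨u, hu, rfl⟩
    exact (dade_conj_mem_iff hD ha hga u).mpr hu

lemma dade_card_conj [Finite G] (hD : Cfsg.DadeHypothesis A L H) {a g : G} (ha : a ∈ A)
    (hga : g * a * g⁻¹ ∈ A) : Nat.card (H (g * a * g⁻¹)) = Nat.card (H a) := by
  rw [dade_H_conj hD ha hga]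
  exact Subgroup.card_map_of_injective (MulAut.conj g).injective

/-- The support of the Dade map. -/
def dadeSupp (A : Set G) (H : G → Subgroup G) : Set G :=
  {g : G | ∃ a ∈ A, ∃ u ∈ H a, ∃ x : G, x * g * x⁻¹ = a * u}

open Classical in
/-- The conjugators sending `a₀ u₀` into some coset `a·H(a)` are the `L·H(a₀)`. -/
lemma dade_fibre [Finite G] (hD : Cfsg.DadeHypothesis A L H) {a₀ u₀ : G} (ha₀ : a₀ ∈ A)
    (hu₀ : u₀ ∈ H a₀) :
    Nat.card {x : G // ∃ a ∈ A, ∃ u ∈ H a, x * (a₀ * u₀) * x⁻¹ = a * u}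
      = Nat.card L * Nat.card (H a₀) := by
  rw [← Nat.card_prod]
  symm
  refine Nat.card_eq_of_bijective (fun p : ↥L × ↥(H a₀) => ⟨(p.1 : G) * (p.2 : G), ?_⟩) ⟨?_, ?_⟩
  · obtain ⟨l, h⟩ := p
    have ha : (l : G) * a₀ * (l : G)⁻¹ ∈ A := hD.conj_mem l l.2 a₀ ha₀
    refine ⟨_, ha, (l : G) * ((h : G) * u₀ * (h : G)⁻¹) * (l : G)⁻¹,
      (dade_conj_mem_iff hD ha₀ ha _).mpr (mul_mem (mul_mem h.2 hu₀) (inv_mem h.2)), ?_⟩
    have hc : (h : G) * a₀ * (h : G)⁻¹ = a₀ := by
      rw [← (dade_commute hD ha₀ h.2).eq, mul_inv_cancel_right]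
    calc (l : G) * h * (a₀ * u₀) * ((l : G) * h)⁻¹
        = (l : G) * ((h : G) * a₀ * (h : G)⁻¹) * (l : G)⁻¹
          * ((l : G) * ((h : G) * u₀ * (h : G)⁻¹) * (l : G)⁻¹) := by group
      _ = _ := by rw [hc]
  · rintro ⟨l, h⟩ ⟨l', h'⟩ he
    have he' : (l : G) * h = l' * h' := congrArg Subtype.val he
    have h1 : (l' : G)⁻¹ * l = (h' : G) * (h : G)⁻¹ := by
      rw [eq_mul_inv_iff_mul_eq, mul_assoc, he', inv_mul_cancel_left]
    have hL : (h' : G) * (h : G)⁻¹ ∈ L := h1 ▸ mul_mem (inv_mem l'.2) l.2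
    have hH : (h' : G) * (h : G)⁻¹ ∈ H a₀ := mul_mem h'.2 (inv_mem h.2)
    have h2 : (h' : G) * (h : G)⁻¹ ∈ H a₀ ⊓ (L ⊓ Subgroup.centralizer ({a₀} : Set G)) :=
      ⟨hH, hL, hD.le_centralizer a₀ ha₀ hH⟩
    rw [hD.inf_eq_bot a₀ ha₀, Subgroup.mem_bot, mul_inv_eq_one] at h2
    rw [Subtype.ext h2.symm] at he' ⊢
    rw [Subtype.ext (mul_right_cancel he')]
  · rintro ⟨x, a, ha, u, hu, hx⟩
    obtain ⟨h1, -⟩ := dade_conj_eq hD ha₀ ha hu₀ hu hx
    obtain ⟨l, hl, hla⟩ := hD.fusion a₀ ha₀ x (h1 ▸ ha)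
    have hc : l⁻¹ * x ∈ Subgroup.centralizer ({a₀} : Set G) := by
      rw [Subgroup.mem_centralizer_singleton_iff]
      calc l⁻¹ * x * a₀ = l⁻¹ * (x * a₀ * x⁻¹) * x := by group
        _ = l⁻¹ * (l * a₀ * l⁻¹) * x := by rw [hla]
        _ = a₀ * (l⁻¹ * x) := by group
    have hc' : x⁻¹ * l ∈ Subgroup.centralizer ({a₀} : Set G) := by
      simpa [mul_inv_rev] using inv_mem hc
    obtain ⟨h, hh, c, hcL, hcC, hxl⟩ := dade_mem_sup hD ha₀ hc'
    refine ⟨⟨⟨l * c⁻¹, mul_mem hl (inv_mem hcL)⟩, ⟨h⁻¹, inv_mem hh⟩⟩, ?_⟩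
    apply Subtype.ext
    show l * c⁻¹ * h⁻¹ = x
    calc l * c⁻¹ * h⁻¹ = l * (h * c)⁻¹ := by group
      _ = l * (x⁻¹ * l)⁻¹ := by rw [hxl]
      _ = x := by group

open Classical in
/-- Averaging identity: the sum of a class function over the Dade support. -/
theorem dade_sum [Fintype G] (hD : Cfsg.DadeHypothesis A L H) {K : Type*} [Field K] [CharZero K]
    (f : G → K) (hf : ∀ g h : G, f (h * g * h⁻¹) = f g) :
    (Nat.card L : K) * (∑ g ∈ Finset.univ.filter (· ∈ dadeSupp A H), f g)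
      = (Nat.card G : K) * ∑ a ∈ Finset.univ.filter (· ∈ A),
          (Nat.card (H a) : K)⁻¹ * ∑ u ∈ Finset.univ.filter (· ∈ H a), f (a * u) := by
  set As := Finset.univ.filter (· ∈ A) with hAs
  let w : G → G → K := fun g x => ∑ a ∈ As, ∑ u ∈ Finset.univ.filter (· ∈ H a),
    if x * g * x⁻¹ = a * u then (Nat.card (H a) : K)⁻¹ else 0
  have hcard : ∀ g : G, ∑ x : G, w g x = if g ∈ dadeSupp A H then (Nat.card L : K) else 0 := by
    intro g
    split_ifs with hg
    · obtain ⟨a₀, ha₀, u₀, hu₀, y, hy⟩ := hg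
      rw [show ∑ x : G, w g x = ∑ x : G, w g (x * y) from
        (Equiv.sum_comp (Equiv.mulRight y) (w g)).symm]
      have hw : ∀ x, w g (x * y) = if ∃ a ∈ A, ∃ u ∈ H a, x * (a₀ * u₀) * x⁻¹ = a * u
          then (Nat.card (H a₀) : K)⁻¹ else 0 := by
        intro x
        have e : x * y * g * (x * y)⁻¹ = x * (a₀ * u₀) * x⁻¹ := by rw [← hy]; group
        simp only [w, e]
        split_ifs with hx
        · obtain ⟨a, ha, u, hu, hau⟩ := hx
          rw [Finset.sum_eq_single a]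
          · rw [Finset.sum_eq_single u]
            · rw [if_pos hau]
              obtain ⟨h1, -⟩ := dade_conj_eq hD ha₀ ha hu₀ hu hau
              rw [← h1, dade_card_conj hD ha₀ (h1 ▸ ha)]
            · intro v _ hvu
              rw [if_neg]
              intro h
              exact hvu (mul_left_cancel (h.symm.trans hau))
            · intro h; exact absurd (Finset.mem_filter.mpr ⟨Finset.mem_univ _, hu⟩) h
          · intro b hb hba
            refine Finset.sum_eq_zero fun v hv => if_neg fun h => hba ?_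
            rw [← (dade_conj_eq hD ha₀ (Finset.mem_filter.mp hb).2 hu₀
              (Finset.mem_filter.mp hv).2 h).1, (dade_conj_eq hD ha₀ ha hu₀ hu hau).1]
          · intro h; exact absurd (Finset.mem_filter.mpr ⟨Finset.mem_univ _, ha⟩) h
        · refine Finset.sum_eq_zero fun a ha => Finset.sum_eq_zero fun u hu => if_neg fun h =>
            hx ⟨a, (Finset.mem_filter.mp ha).2, u, (Finset.mem_filter.mp hu).2, h⟩
      simp only [hw]
      rw [← Finset.sum_filter, Finset.sum_const, nsmul_eq_mul, ← Fintype.card_subtype,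
        ← Nat.card_eq_fintype_card, dade_fibre hD ha₀ hu₀, Nat.cast_mul,
        mul_assoc, mul_inv_cancel₀ (by exact_mod_cast Nat.card_pos.ne'), mul_one]
    · refine Finset.sum_eq_zero fun x _ => Finset.sum_eq_zero fun a ha =>
        Finset.sum_eq_zero fun u hu => if_neg fun h =>
          hg ⟨a, (Finset.mem_filter.mp ha).2, u, (Finset.mem_filter.mp hu).2, x, h⟩
  calc (Nat.card L : K) * (∑ g ∈ Finset.univ.filter (· ∈ dadeSupp A H), f g)
      = ∑ g : G, f g * ∑ x : G, w g x := by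
        rw [Finset.mul_sum, Finset.sum_filter]
        refine Finset.sum_congr rfl fun g _ => ?_
        rw [hcard]
        split_ifs <;> ring
    _ = ∑ x : G, ∑ g : G, f g * w g x := by
        rw [Finset.sum_comm]
        exact Finset.sum_congr rfl fun g _ => Finset.mul_sum _ _ _
    _ = ∑ _x : G, ∑ a ∈ As, (Nat.card (H a) : K)⁻¹ *
          ∑ u ∈ Finset.univ.filter (· ∈ H a), f (a * u) := by
        refine Finset.sum_congr rfl fun x _ => ?_
        simp only [w, Finset.mul_sum]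
        rw [Finset.sum_comm]
        refine Finset.sum_congr rfl fun a _ => ?_
        rw [Finset.sum_comm]
        refine Finset.sum_congr rfl fun u _ => ?_
        rw [Finset.sum_eq_single (x⁻¹ * (a * u) * x)]
        · rw [if_pos (by group)]
          have : f (x⁻¹ * (a * u) * x) = f (a * u) := by simpa using hf (a * u) x⁻¹
          rw [this, mul_comm]
        · intro g _ hg
          rw [if_neg, mul_zero]
          intro h
          exact hg (by rw [← h]; group)
        · intro h; exact absurd (Finset.mem_univ _) h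
    _ = _ := by
        rw [Finset.sum_const, Finset.card_univ, nsmul_eq_mul, Nat.card_eq_fintype_card]

end Cfsg.Agent.H43
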