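import Mathlib
import Cfsg.Agent.S1500
import Cfsg.Agent.H43.Dade
import Cfsg.Agent.H43.CoprimeAverage
import Cfsg.Agent.CharInduce.Ops

/-!
The Dade map sends virtual characters supported on `A` to virtual characters (Peterfalvi 2.6): the
inclusion-exclusion over subsets `B` of `A` with `⋂_{b ∈ B} H b` and the stabiliser of `B` in `L`, paired
against an irreducible character.
-/

set_option autoImplicit false

namespace Cfsg.Agent.H43

universe u

open Classical in
/-- A weighted sum of an invariant integer function by stabiliser orders is divisible by the group order. -/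
theorem dvd_sum_stabilizer {Γ : Type*} [Group Γ] [Finite Γ] {β : Type*} [MulAction Γ β] [Fintype β]
    (F : β → ℤ) (hF : ∀ (g : Γ) (b : β), F (g • b) = F b) :
    (Nat.card Γ : ℤ) ∣ ∑ b, (Nat.card (MulAction.stabilizer Γ b) : ℤ) * F b := by
  letI := MulAction.orbitRel Γ β
  rw [← Finset.sum_fiberwise Finset.univ (fun b => Quotient.mk'' b : β → MulAction.orbitRel.Quotient Γ β)]
  refine Finset.dvd_sum fun ω _ => ?_
  obtain ⟨b₀, rfl⟩ := Quotient.exists_rep ω
  have hmem : ∀ b : β, (Quotient.mk'' b : MulAction.orbitRel.Quotient Γ β) = ⟦b₀⟧ ↔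
      b ∈ MulAction.orbit Γ b₀ := fun b => by
    rw [← MulAction.orbitRel_apply]; exact Quotient.eq''
  have hterm : ∀ b ∈ Finset.univ.filter (fun b : β =>
      (Quotient.mk'' b : MulAction.orbitRel.Quotient Γ β) = ⟦b₀⟧),
      (Nat.card (MulAction.stabilizer Γ b) : ℤ) * F b
        = (Nat.card (MulAction.stabilizer Γ b₀) : ℤ) * F b₀ := by
    intro b hb
    obtain ⟨g, rfl⟩ := (hmem b).mp (Finset.mem_filter.mp hb).2
    congr 1
    · rw [Nat.cast_inj]
      exact (Nat.card_congr (MulAction.stabilizerEquivStabilizer (g := g) rfl).toEquiv).symm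
    · exact hF g b₀
  rw [Finset.sum_congr rfl hterm, Finset.sum_const, nsmul_eq_mul]
  have hc : (Finset.univ.filter (fun b : β =>
      (Quotient.mk'' b : MulAction.orbitRel.Quotient Γ β) = ⟦b₀⟧)).card
      = (MulAction.stabilizer Γ b₀).index := by
    rw [MulAction.index_stabilizer, Set.ncard_eq_toFinset_card']
    congr 1
    ext b
    simp [hmem b]
  refine ⟨F b₀, ?_⟩
  rw [← mul_assoc, hc, ← Nat.cast_mul, mul_comm (MulAction.stabilizer Γ b₀).index, Subgroup.card_mul_index]

variable {G : Type u} [Group G] {A : Set G} {L : Subgroup G} {H : G → Subgroup G}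

/-- The value of the Dade map on the support. -/
lemma dade_apply [Finite G] (hD : Cfsg.DadeHypothesis A L H) {α : L → ℂ}
    (hα : Cfsg.IsClassFunction L α) {g x u : G} {a : L} (ha : (a : G) ∈ A) (hu : u ∈ H (a : G))
    (hx : x * g * x⁻¹ = (a : G) * u) : Cfsg.dadeIsometry A L H α g = α a := by
  have h : ∃ a : ↥L, (a : G) ∈ A ∧ ∃ x : G, ∃ u ∈ H (a : G), x * g * x⁻¹ = (a : G) * u :=
    ⟨a, ha, x, u, hu, hx⟩
  simp only [Cfsg.dadeIsometry, dif_pos h]
  obtain ⟨hb, y, v, hv, hy⟩ := Classical.choose_spec h
  set b := Classical.choose h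
  have he : (y * x⁻¹) * ((a : G) * u) * (y * x⁻¹)⁻¹ = (b : G) * v := by rw [← hx, ← hy]; group
  obtain ⟨hc, -⟩ := dade_conj_eq hD ha hb hu hv he
  obtain ⟨l, hl, hla⟩ := hD.fusion a ha _ (hc.symm ▸ hb)
  rw [← hα a ⟨l, hl⟩]
  exact congrArg α (Subtype.ext (by push_cast; exact (hla.trans hc).symm))

/-- The value of the Dade map off the support. -/
lemma dade_apply_zero {α : L → ℂ} {g : G}
    (h : ¬ ∃ a : ↥L, (a : G) ∈ A ∧ ∃ x : G, ∃ u ∈ H (a : G), x * g * x⁻¹ = (a : G) * u) :
    Cfsg.dadeIsometry A L H α g = 0 := by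
  simp only [Cfsg.dadeIsometry, dif_neg h]

lemma dade_isClassFunction [Finite G] (hD : Cfsg.DadeHypothesis A L H) {α : L → ℂ}
    (hα : Cfsg.IsClassFunction L α) : Cfsg.IsClassFunction G (Cfsg.dadeIsometry A L H α) := by
  intro g y
  by_cases h : ∃ a : ↥L, (a : G) ∈ A ∧ ∃ x : G, ∃ u ∈ H (a : G), x * g * x⁻¹ = (a : G) * u
  · obtain ⟨a, ha, x, u, hu, hx⟩ := h
    rw [dade_apply hD hα ha hu hx, dade_apply hD hα (g := y * g * y⁻¹) (x := x * y⁻¹) ha hu
      (by rw [← hx]; group)]
  · rw [dade_apply_zero h, dade_apply_zero]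
    rintro ⟨a, ha, x, u, hu, hx⟩
    exact h ⟨a, ha, x * y, u, hu, by rw [← hx]; group⟩

open Classical in
/-- The inner product of the Dade image of a virtual character with a character is an integer. -/
theorem dade_inner_int [Fintype G] [Fintype L] (hD : Cfsg.DadeHypothesis A L H) {α : L → ℂ}
    (hα : Cfsg.IsGeneralizedCharacter L α) (hαA : ∀ x : L, (x : G) ∉ A → α x = 0)
    {χ : G → ℂ} (hχ : Cfsg.IsCharacter G χ) :
    ∃ n : ℤ, Cfsg.classInner (Cfsg.dadeIsometry A L H α) χ = n := by
  have hαc := CharInduce.IsGen.isClassFunction hα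
  have hχc := CharBasic.IsChar.isClassFunction hχ
  let Kf : Finset G → Finset G := fun B => Finset.univ.filter (fun c => ∀ b ∈ B, c ∈ H b)
  let E : Finset G → G → ℂ := fun B a => ((Kf B).card : ℂ)⁻¹ * ∑ c ∈ Kf B, χ (c * a)
  have hE_conj : ∀ (m : L) (B : Finset G) (a : G), (↑B : Set G) ⊆ A →
      E (B.image fun b => (m : G) * b * (m : G)⁻¹) ((m : G) * a * (m : G)⁻¹) = E B a := by
    intro m B a hB
    have hmem : ∀ c, c ∈ Kf B ↔ (m : G) * c * (m : G)⁻¹ ∈ Kf (B.image fun b => (m : G) * b * (m : G)⁻¹) := by
      intro c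
      simp only [Kf, Finset.mem_filter, Finset.mem_univ, true_and, Finset.forall_mem_image]
      exact forall₂_congr fun b hb =>
        (dade_conj_mem_iff hD (hB hb) (hD.conj_mem m m.2 b (hB hb)) c).symm
    simp only [E]
    rw [Finset.card_equiv (MulAut.conj (m : G)).toEquiv hmem]
    congr 1
    refine (Finset.sum_equiv (MulAut.conj (m : G)).toEquiv hmem fun c _ => ?_).symm
    show χ (c * a) = χ ((m : G) * c * (m : G)⁻¹ * ((m : G) * a * (m : G)⁻¹))
    rw [← hχc (c * a) (m : G)]
    congr 1
    group
  letI act : MulAction L (Finset G) :=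
    { smul := fun m B => B.image fun b => (m : G) * b * (m : G)⁻¹
      one_smul := fun B => by
        show B.image _ = B
        simp
      mul_smul := fun m m' B => by
        show B.image _ = (B.image _).image _
        rw [Finset.image_image]
        refine Finset.image_congr fun b _ => ?_
        simp [mul_assoc] }
  have hsmul : ∀ (m : L) (B : Finset G), m • B = B.image fun b => (m : G) * b * (m : G)⁻¹ :=
    fun _ _ => rfl
  have hfix : ∀ (m : L) (B : Finset G), m • B = B ↔ ∀ b, (m : G) * b * (m : G)⁻¹ ∈ B ↔ b ∈ B := by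
    intro m B
    rw [hsmul]
    constructor
    · intro h b
      conv_lhs => rw [← h]
      simp
    · intro h
      ext y
      rw [Finset.mem_image]
      refine ⟨fun ⟨b, hb, hy⟩ => hy ▸ (h b).mpr hb, fun hy => ⟨(m : G)⁻¹ * y * m, ?_, by group⟩⟩
      rw [← h]
      convert hy using 1
      group
  let P : Finset G → Prop := fun B => B.Nonempty ∧ (↑B : Set G) ⊆ A
  let T : Finset G → ℂ := fun B => ∑ l ∈ Finset.univ.filter (fun l : L => l • B = B),
    α l * (starRingEnd ℂ) (E B l)
  -- each `T B` is `|N B|` times an integer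
  have hint : ∀ B, P B → ∃ n : ℤ, T B = (Nat.card (MulAction.stabilizer L B) : ℂ) * n := by
    rintro B ⟨-, hBA⟩
    let K : Subgroup G := ⨅ b ∈ B, H b
    have hK : ∀ c, c ∈ K ↔ c ∈ Kf B := fun c => by simp [K, Kf, Subgroup.mem_iInf]
    have hnorm : ∀ l : L, l ∈ MulAction.stabilizer L B → (l : G) ∈ Subgroup.normalizer (K : Set G) := by
      intro l hl
      rw [MulAction.mem_stabilizer_iff, hfix] at hl
      rw [Subgroup.mem_normalizer_iff]
      intro c
      simp only [hK, Kf, Finset.mem_filter, Finset.mem_univ, true_and]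
      constructor
      · intro h b hb
        have hb' : (l : G)⁻¹ * b * l ∈ B := by rw [← hl]; convert hb using 1; group
        have := (dade_conj_mem_iff hD (hBA hb')
          (show (l : G) * ((l : G)⁻¹ * b * l) * (l : G)⁻¹ ∈ A by convert hBA hb using 1; group) c).mpr
          (h _ hb')
        convert this using 2
        group
      · intro h b hb
        exact (dade_conj_mem_iff hD (hBA hb) (hD.conj_mem l l.2 b (hBA hb)) c).mp (h _ ((hl b).mpr hb))
    let N' := MulAction.stabilizer L B
    let f : N' →* Subgroup.normalizer (K : Set G) :=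
      (L.subtype.comp N'.subtype).codRestrict _ fun l => hnorm l.1 l.2
    have h1 := isCharacter_avg hχ K (Subgroup.normalizer (K : Set G))
      fun l hl k hk => ((Subgroup.mem_normalizer_iff.mp hl) k).mp hk
    have h2 := CharInduce.IsChar.comp h1 f
    obtain ⟨n, hn⟩ := CharInduce.IsGen.exists_int_coeff (CharInduce.IsGen.comp hα N'.subtype) h2
    refine ⟨n, ?_⟩
    rw [← hn, Cfsg.classInner, ← mul_assoc,
      mul_inv_cancel₀ (Nat.cast_ne_zero.mpr Nat.card_pos.ne'), one_mul]
    simp only [T]
    rw [Finset.sum_subtype (p := fun l : L => l ∈ N') _ (fun l => by simp [N', MulAction.mem_stabilizer_iff])]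
    refine Finset.sum_congr rfl fun l _ => ?_
    show α l * _ = α l * _
    congr 2
    show E B ((l : L) : G) = _
    simp only [E, f, MonoidHom.coe_comp, Function.comp_apply, MonoidHom.codRestrict_apply]
    have hc : (Kf B).card = Nat.card K := by
      rw [Nat.card_eq_fintype_card, Fintype.card_subtype]
      congr 1
      ext c
      simp [hK]
    rw [hc, Finset.sum_subtype (p := fun c => c ∈ K) _ (fun c => (hK c).symm)]
    rfl
  let F : Finset G → ℤ := fun B => if h : P B then (-1) ^ B.card * (hint B h).choose else 0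
  have hcardsmul : ∀ (m : L) (B : Finset G), (m • B).card = B.card := fun m B =>
    Finset.card_image_of_injective _ (MulAut.conj (m : G)).injective
  have hPsmul : ∀ (m : L) (B : Finset G), P B → P (m • B) := by
    rintro m B ⟨h1, h2⟩
    rw [hsmul]
    refine ⟨h1.image _, ?_⟩
    intro y hy
    obtain ⟨b, hb, rfl⟩ := Finset.mem_image.mp (Finset.mem_coe.mp hy)
    exact hD.conj_mem m m.2 b (h2 hb)
  have hT : ∀ (m : L) (B : Finset G), P B → T (m • B) = T B := by
    intro m B hB
    refine (Finset.sum_equiv (MulAut.conj m).toEquiv (fun l => ?_) fun l _ => ?_).symm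
    · simp only [Finset.mem_filter, Finset.mem_univ, true_and]
      show l • B = B ↔ (m * l * m⁻¹) • (m • B) = m • B
      rw [smul_smul, inv_mul_cancel_right, mul_smul, smul_left_cancel_iff]
    · show α l * _ = α (m * l * m⁻¹) * _
      rw [hαc l m, hsmul, ← hE_conj m B l hB.2]
      simp
  have hF : ∀ (m : L) (B : Finset G), F (m • B) = F B := by
    intro m B
    by_cases h : P B
    · simp only [F, dif_pos h, dif_pos (hPsmul m B h), hcardsmul]
      congr 1
      have h1 := (hint B h).choose_spec
      have h2 := (hint _ (hPsmul m B h)).choose_spec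
      have e := h2.symm.trans ((hT m B h).trans h1)
      generalize (hint B h).choose = z1 at e ⊢
      generalize (hint _ (hPsmul m B h)).choose = z2 at e ⊢
      rw [Nat.card_congr (MulAction.stabilizerEquivStabilizer (g := m) (a := B) rfl).toEquiv,
        mul_right_inj' (Nat.cast_ne_zero.mpr Nat.card_pos.ne')] at e
      exact_mod_cast e
    · have : ¬ P (m • B) := fun h' => h (by simpa using hPsmul m⁻¹ _ h')
      simp only [F, dif_neg h, dif_neg this]
  obtain ⟨n, hn⟩ := dvd_sum_stabilizer F hF
  refine ⟨-n, ?_⟩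
  -- collapse the inclusion-exclusion
  have hcol : ∀ a : L, (a : G) ∈ A →
      ∑ B ∈ Finset.univ.filter (fun B : Finset G => P B ∧ a • B = B), (-1 : ℂ) ^ B.card *
        (starRingEnd ℂ) (E B a) = - (starRingEnd ℂ) (E {(a : G)} a) := by
    intro a ha
    have hPa : P {(a : G)} := ⟨Finset.singleton_nonempty _, by simpa using ha⟩
    have haa : a • ({(a : G)} : Finset G) = {(a : G)} := by rw [hsmul]; simp
    have hEins : ∀ B, P B → a • B = B → E B a = E (insert (a : G) B) a := by
      intro B hB hBa
      obtain ⟨b₀, hb₀⟩ := hB.1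
      let K : Subgroup G := ⨅ b ∈ B, H b
      have hK : ∀ c, c ∈ K ↔ ∀ b ∈ B, c ∈ H b := fun c => by simp [K, Subgroup.mem_iInf]
      have hfa := (hfix a B).mp hBa
      have hKa : ∀ c ∈ K, (a : G) * c * (a : G)⁻¹ ∈ K := by
        intro c hc
        rw [hK] at hc ⊢
        intro b hb
        have hb' : (a : G)⁻¹ * b * a ∈ B := by rw [← hfa]; convert hb using 1; group
        have := (dade_conj_mem_iff hD (hB.2 hb')
          (show (a : G) * ((a : G)⁻¹ * b * a) * (a : G)⁻¹ ∈ A by convert hB.2 hb using 1; group) c).mpr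
          (hc _ hb')
        convert this using 2
        group
      have hco : Nat.Coprime (Nat.card K) (orderOf (a : G)) := by
        refine ((hD.coprime b₀ (hB.2 hb₀) a ha).coprime_dvd_left
          (Subgroup.card_dvd_of_le (fun c hc => (hK c).mp hc b₀ hb₀))).coprime_dvd_right ?_
        have := orderOf_dvd_natCard
          (⟨(a : G), a.2, Subgroup.mem_centralizer_singleton_iff.mpr rfl⟩ :
            ↥(L ⊓ Subgroup.centralizer ({(a : G)} : Set G)))
        rwa [← Subgroup.orderOf_coe] at this
      have h := sum_coset_coprime K (a : G) hKa hco χ (fun g h => hχc g h)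
      have e1 : Finset.univ.filter (fun c => c ∈ K ∧ Commute c (a : G)) = Kf (insert (a : G) B) := by
        obtain ⟨k, hk⟩ := dade_exponent hD
        ext c
        simp only [Kf, Finset.mem_filter, Finset.mem_univ, true_and, Finset.forall_mem_insert, hK]
        refine ⟨fun ⟨h1, h2⟩ => ⟨?_, h1⟩, fun ⟨h1, h2⟩ => ⟨h2, (dade_commute hD ha h1).symm⟩⟩
        refine ((hk a ha).2 c (Subgroup.mem_centralizer_singleton_iff.mpr h2.eq)).mp ?_
        exact ((hk b₀ (hB.2 hb₀)).2 c (hD.le_centralizer b₀ (hB.2 hb₀) (h1 b₀ hb₀))).mpr (h1 b₀ hb₀)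
      have e2 : Finset.univ.filter (· ∈ K) = Kf B := by
        ext c; simp [Kf, hK]
      have e3 : (Kf B).card = Nat.card K := by
        rw [← e2, Nat.card_eq_fintype_card, Fintype.card_subtype]
      rw [e1, e2] at h
      simp only [E]
      have hn1 : ((Kf (insert (a : G) B)).card : ℂ) ≠ 0 :=
        Nat.cast_ne_zero.mpr (Finset.card_pos.mpr ⟨1, by simp [Kf]⟩).ne'
      have hn2 : ((Kf B).card : ℂ) ≠ 0 := Nat.cast_ne_zero.mpr (Finset.card_pos.mpr ⟨1, by simp [Kf]⟩).ne'
      rw [e3] at hn2 ⊢
      field_simp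
      linear_combination -h
    rw [← Finset.add_sum_erase _ _ (show ({(a : G)} : Finset G) ∈ Finset.univ.filter
      (fun B : Finset G => P B ∧ a • B = B) by simp [hPa, haa])]
    have hzero : ∑ B ∈ (Finset.univ.filter (fun B : Finset G => P B ∧ a • B = B)).erase {(a : G)},
        (-1 : ℂ) ^ B.card * (starRingEnd ℂ) (E B a) = 0 := by
      have hfa : (a : G) * (a : G) * (a : G)⁻¹ = a := by group
      have hinj : Function.Injective (fun b : G => (a : G) * b * (a : G)⁻¹) :=
        (MulAut.conj (a : G)).injective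
      refine Finset.sum_involution
        (fun B _ => if (a : G) ∈ B then B.erase (a : G) else insert (a : G) B) ?_ ?_ ?_ ?_
      · intro B hB
        simp only [Finset.mem_erase, Finset.mem_filter, Finset.mem_univ, true_and] at hB
        obtain ⟨hne, hP, hBa⟩ := hB
        split_ifs with h
        · have hP' : P (B.erase (a : G)) := by
            refine ⟨?_, fun x hx => hP.2 (Finset.mem_of_mem_erase hx)⟩
            rw [Finset.nonempty_iff_ne_empty, Ne, Finset.erase_eq_empty_iff]
            rintro (rfl | rfl)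
            · simp at h
            · exact hne rfl
          have hB' : a • B.erase (a : G) = B.erase (a : G) := by
            rw [hsmul, Finset.image_erase hinj, hfa, ← hsmul, hBa]
          rw [hEins _ hP' hB', Finset.insert_erase h, ← Finset.card_erase_add_one h, pow_succ]
          ring
        · rw [hEins _ hP hBa, Finset.card_insert_of_notMem h, pow_succ]
          ring
      · intro B _ _
        split_ifs with h
        · simpa [Finset.erase_eq_self] using h
        · simpa [Finset.insert_eq_self] using h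
      · intro B hB
        simp only [Finset.mem_erase, Finset.mem_filter, Finset.mem_univ, true_and] at hB ⊢
        obtain ⟨hne, hP, hBa⟩ := hB
        split_ifs with h
        · refine ⟨?_, ⟨?_, fun x hx => hP.2 (Finset.mem_of_mem_erase hx)⟩, ?_⟩
          · intro e
            have := e.symm ▸ Finset.mem_singleton_self (a : G)
            simp at this
          · rw [Finset.nonempty_iff_ne_empty, Ne, Finset.erase_eq_empty_iff]
            rintro (rfl | rfl)
            · simp at h
            · exact hne rfl
          · rw [hsmul, Finset.image_erase hinj, hfa, ← hsmul, hBa]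
        · refine ⟨?_, ⟨Finset.insert_nonempty _ _, ?_⟩, ?_⟩
          · intro e
            obtain ⟨b, hb⟩ := hP.1
            have := e ▸ Finset.mem_insert_of_mem (b := (a : G)) hb
            rw [Finset.mem_singleton] at this
            exact h (this ▸ hb)
          · rw [Finset.coe_insert]
            exact Set.insert_subset ha hP.2
          · rw [hsmul, Finset.image_insert, hfa, ← hsmul, hBa]
      · intro B _
        by_cases h : (a : G) ∈ B <;> simp [h]
    rw [hzero, add_zero, Finset.card_singleton, pow_one, neg_one_mul]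
  have hsum : ((∑ B, (Nat.card (MulAction.stabilizer L B) : ℤ) * F B : ℤ) : ℂ)
      = - ∑ a : L, α a * (starRingEnd ℂ) (E {(a : G)} a) := by
    calc ((∑ B, (Nat.card (MulAction.stabilizer L B) : ℤ) * F B : ℤ) : ℂ)
        = ∑ B ∈ Finset.univ.filter P, (-1 : ℂ) ^ B.card * T B := by
          rw [Int.cast_sum, Finset.sum_filter]
          refine Finset.sum_congr rfl fun B _ => ?_
          by_cases h : P B
          · simp only [F, dif_pos h]; rw [if_pos (by exact h)]
            have e := (hint B h).choose_spec
            generalize (hint B h).choose = z at e ⊢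
            rw [e]
            push_cast
            ring
          · simp only [F, dif_neg h, mul_zero, Int.cast_zero]; rw [if_neg (by exact h)]
      _ = ∑ a : L, ∑ B ∈ Finset.univ.filter (fun B : Finset G => P B ∧ a • B = B),
            α a * ((-1 : ℂ) ^ B.card * (starRingEnd ℂ) (E B a)) := by
          simp only [Finset.sum_filter]
          refine (Finset.sum_congr rfl fun B _ => ?_).trans Finset.sum_comm
          by_cases h : P B
          · simp only [T, if_pos h, h, true_and, Finset.mul_sum, Finset.sum_filter]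
            exact Finset.sum_congr rfl fun a _ => by split_ifs <;> ring
          · simp [h]
      _ = _ := by
          rw [← Finset.sum_neg_distrib]
          refine Finset.sum_congr rfl fun a _ => ?_
          by_cases ha : (a : G) ∈ A
          · rw [← Finset.mul_sum, hcol a ha, mul_neg]
          · simp [hαA a ha]
  rw [hn] at hsum
  have hadj := (Cfsg.Agent.S1500.result A L H hD α hαc hαA).2 χ
    (fun a : L => (Nat.card (H a) : ℂ)⁻¹ * ∑ᶠ u ∈ (H a : Set G), χ (a * u)) hχc (fun a _ => rfl)
  rw [hadj, Cfsg.classInner]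
  have hterm : ∀ a : L, α a * (starRingEnd ℂ) ((Nat.card (H a) : ℂ)⁻¹ * ∑ᶠ u ∈ (H a : Set G), χ (a * u))
      = α a * (starRingEnd ℂ) (E {(a : G)} a) := by
    intro a
    congr 2
    simp only [E]
    have e : Kf {(a : G)} = Finset.univ.filter (· ∈ H (a : G)) := by ext c; simp [Kf]
    rw [e, finsum_mem_eq_finite_toFinset_sum _ (Set.toFinite _), Nat.card_eq_fintype_card,
      Fintype.card_subtype]
    congr 1
    refine Finset.sum_congr (by ext; simp) fun c _ => ?_
    rw [← hχc ((a : G) * c) c]
    congr 1
    group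
  simp only [hterm]
  push_cast at hsum ⊢
  have hL : (Nat.card L : ℂ) ≠ 0 := Nat.cast_ne_zero.mpr Nat.card_pos.ne'
  field_simp
  linear_combination hsum

/-- Peterfalvi 2.6. -/
theorem dade_virtual [Fintype G] [Fintype L] (hD : Cfsg.DadeHypothesis A L H) {α : L → ℂ}
    (hα : Cfsg.IsGeneralizedCharacter L α) (hαA : ∀ x : L, (x : G) ∉ A → α x = 0) :
    Cfsg.IsGeneralizedCharacter G (Cfsg.dadeIsometry A L H α) :=
  CharInduce.isGeneralizedCharacter_of_coeff (dade_isClassFunction hD (CharInduce.IsGen.isClassFunction hα))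
    fun ψ => dade_inner_int hD hα hαA (CharBasic.IsIrr.isCharacter ψ.2)

end Cfsg.Agent.H43
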