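import Mathlib
import Cfsg.Prelude.Def_OddOrderLocal
import Cfsg.Prelude.Def_OddOrderChar
import Cfsg.Agent.CharBasic.Orth
import Cfsg.Agent.CharInduce.Function
import Cfsg.Agent.H43.Virtual
import Cfsg.Agent.H43.Linear

/-!
A self-normalising cyclic subgroup `W = W₁ × W₂`: the functions `(1 − φ)(1 − ψ)`, orthogonality to them
forces vanishing outside `W₁ ∪ W₂`, and uniqueness in a cyclic TI family.
-/

set_option autoImplicit false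

open scoped ComplexConjugate

namespace Cfsg.Agent.H43

open Cfsg.Agent

universe u

variable {G : Type u} [Group G] {W₁ W₂ : Subgroup G}

/-- `(1 − φ)(1 − ψ)`. -/
noncomputable def cycAlpha (φ ψ : ↥(W₁ ⊔ W₂) →* ℂˣ) : ↥(W₁ ⊔ W₂) → ℂ :=
  fun w => 1 - (φ w : ℂ) - (ψ w : ℂ) + (φ w : ℂ) * (ψ w : ℂ)

/-- Linear characters trivial on `W₂`. -/
def TrivR (φ : ↥(W₁ ⊔ W₂) →* ℂˣ) : Prop := ∀ w : ↥(W₁ ⊔ W₂), (w : G) ∈ W₂ → φ w = 1

/-- Linear characters trivial on `W₁`. -/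
def TrivL (ψ : ↥(W₁ ⊔ W₂) →* ℂˣ) : Prop := ∀ w : ↥(W₁ ⊔ W₂), (w : G) ∈ W₁ → ψ w = 1

theorem trivR_one : TrivR (W₁ := W₁) (W₂ := W₂) 1 := fun _ _ => rfl

theorem trivL_one : TrivL (W₁ := W₁) (W₂ := W₂) 1 := fun _ _ => rfl

theorem cycAlpha_eq_mul (φ ψ : ↥(W₁ ⊔ W₂) →* ℂˣ) (w : ↥(W₁ ⊔ W₂)) :
    cycAlpha φ ψ w = (1 - (φ w : ℂ)) * (1 - (ψ w : ℂ)) := by
  rw [cycAlpha]; ring

theorem cycAlpha_zero {φ ψ : ↥(W₁ ⊔ W₂) →* ℂˣ} (hφ : TrivR φ) (hψ : TrivL ψ)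
    (w : ↥(W₁ ⊔ W₂)) (hw : (w : G) ∈ W₁ ∨ (w : G) ∈ W₂) : cycAlpha φ ψ w = 0 := by
  rw [cycAlpha_eq_mul]
  rcases hw with h | h
  · simp [hψ w h]
  · simp [hφ w h]

theorem cycAlpha_isClassFunction (hcyc : IsCyclic ↥(W₁ ⊔ W₂)) (φ ψ : ↥(W₁ ⊔ W₂) →* ℂˣ) :
    Cfsg.IsClassFunction ↥(W₁ ⊔ W₂) (cycAlpha φ ψ) := by
  intro g h
  letI : CommGroup ↥(W₁ ⊔ W₂) := hcyc.commGroup
  rw [mul_comm h g, mul_inv_cancel_right]

theorem mem_normalizer_sup {a : G} (hcyc : IsCyclic ↥(W₁ ⊔ W₂)) (ha : a ∈ W₁ ⊔ W₂) {b : G}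
    (hb : b ∈ W₁ ⊔ W₂) : a * b = b * a := by
  letI : CommGroup ↥(W₁ ⊔ W₂) := hcyc.commGroup
  exact congrArg Subtype.val (mul_comm (⟨a, ha⟩ : ↥(W₁ ⊔ W₂)) ⟨b, hb⟩)

theorem exists_mul_decomp (hW : Cfsg.IsSelfNormalizingCyclic W₁ W₂) (w : ↥(W₁ ⊔ W₂)) :
    ∃ a b : ↥(W₁ ⊔ W₂), (a : G) ∈ W₁ ∧ (b : G) ∈ W₂ ∧ w = a * b := by
  have hle : W₁ ≤ Subgroup.normalizer (W₂ : Set G) := by
    intro a ha
    rw [Subgroup.mem_normalizer_iff]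
    intro b
    constructor
    · intro hb; rw [hW.2.2.2.1 a ha b hb, mul_inv_cancel_right]; exact hb
    · intro hb
      have := hW.2.2.2.1 a⁻¹ (inv_mem ha) _ hb
      have e : b = a⁻¹ * (a * b * a⁻¹) * a := by group
      rw [e, this, inv_mul_cancel_right]; exact hb
  have hw : (w : G) ∈ ((W₁ ⊔ W₂ : Subgroup G) : Set G) := w.2
  rw [Subgroup.coe_mul_of_left_le_normalizer_right W₁ W₂ hle] at hw
  obtain ⟨a, ha, b, hb, hab⟩ := Set.mem_mul.mp hw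
  exact ⟨⟨a, Subgroup.mem_sup_left ha⟩, ⟨b, Subgroup.mem_sup_right hb⟩, ha, hb, Subtype.ext hab.symm⟩

theorem linear_ext (hW : Cfsg.IsSelfNormalizingCyclic W₁ W₂) {ω η : ↥(W₁ ⊔ W₂) →* ℂˣ}
    (h₁ : ∀ w : ↥(W₁ ⊔ W₂), (w : G) ∈ W₁ → ω w = η w)
    (h₂ : ∀ w : ↥(W₁ ⊔ W₂), (w : G) ∈ W₂ → ω w = η w) : ω = η := by
  ext w
  obtain ⟨a, b, ha, hb, rfl⟩ := exists_mul_decomp hW w
  rw [map_mul, map_mul, h₁ a ha, h₂ b hb]

theorem factor_unique (hW : Cfsg.IsSelfNormalizingCyclic W₁ W₂)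
    {φ φ' ψ ψ' : ↥(W₁ ⊔ W₂) →* ℂˣ} (hφ : TrivR φ) (hφ' : TrivR φ') (hψ : TrivL ψ) (hψ' : TrivL ψ')
    (he : φ * ψ = φ' * ψ') : φ = φ' ∧ ψ = ψ' := by
  constructor
  · refine linear_ext hW (fun w hw => ?_) (fun w hw => by rw [hφ w hw, hφ' w hw])
    have := DFunLike.congr_fun he w
    simpa [hψ w hw, hψ' w hw] using this
  · refine linear_ext hW (fun w hw => by rw [hψ w hw, hψ' w hw]) (fun w hw => ?_)
    have := DFunLike.congr_fun he w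
    simpa [hφ w hw, hφ' w hw] using this

theorem exists_factor (hW : Cfsg.IsSelfNormalizingCyclic W₁ W₂) [Finite G]
    (ω : ↥(W₁ ⊔ W₂) →* ℂˣ) : ∃ φ ψ, TrivR φ ∧ TrivL ψ ∧ ω = φ * ψ := by
  haveI : IsCyclic ↥(W₁ ⊔ W₂) := hW.2.2.2.2.1
  let e : ↥W₁ × ↥W₂ →* ↥(W₁ ⊔ W₂) :=
    MonoidHom.noncommCoprod (Subgroup.inclusion le_sup_left) (Subgroup.inclusion le_sup_right)
      (fun a b => Subtype.ext (hW.2.2.2.1 a a.2 b b.2))
  have hbij : Function.Bijective e := by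
    refine ⟨?_, fun w => ?_⟩
    · intro p q h
      have h' : (p.1 : G) * p.2 = q.1 * q.2 := congrArg Subtype.val h
      have h1 : (q.1 : G)⁻¹ * p.1 = q.2 * (p.2 : G)⁻¹ := by
        rw [eq_mul_inv_iff_mul_eq, mul_assoc, h', inv_mul_cancel_left]
      have h2 : (q.1 : G)⁻¹ * p.1 ∈ W₁ ⊓ W₂ :=
        Subgroup.mem_inf.mpr ⟨mul_mem (inv_mem q.1.2) p.1.2, h1 ▸ mul_mem q.2.2 (inv_mem p.2.2)⟩
      rw [hW.2.2.1, Subgroup.mem_bot, inv_mul_eq_one] at h2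
      have e1 : p.1 = q.1 := Subtype.ext h2.symm
      rw [e1] at h'
      exact Prod.ext e1 (Subtype.ext (mul_left_cancel h'))
    · obtain ⟨a, b, ha, hb, rfl⟩ := exists_mul_decomp hW w
      exact ⟨(⟨a, ha⟩, ⟨b, hb⟩), rfl⟩
  let E := MulEquiv.ofBijective e hbij
  let φ : ↥(W₁ ⊔ W₂) →* ℂˣ :=
    ω.comp (((Subgroup.inclusion le_sup_left).comp (MonoidHom.fst ↥W₁ ↥W₂)).comp E.symm.toMonoidHom)
  have hφR : TrivR φ := by
    intro w hw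
    have he : E.symm w = (1, ⟨w, hw⟩) := by
      rw [MulEquiv.symm_apply_eq]
      exact Subtype.ext (one_mul _).symm
    show ω (Subgroup.inclusion le_sup_left (E.symm w).1) = 1
    rw [he]; exact map_one ω
  have hφL : ∀ w : ↥(W₁ ⊔ W₂), (w : G) ∈ W₁ → φ w = ω w := by
    intro w hw
    have he : E.symm w = (⟨w, hw⟩, 1) := by
      rw [MulEquiv.symm_apply_eq]
      exact Subtype.ext (mul_one _).symm
    show ω (Subgroup.inclusion le_sup_left (E.symm w).1) = ω w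
    rw [he]; rfl
  refine ⟨φ, φ⁻¹ * ω, hφR, fun w hw => ?_, (mul_inv_cancel_left φ ω).symm⟩
  simp [hφL w hw]

theorem conj_mem_V {g v : G} (hW : Cfsg.IsSelfNormalizingCyclic W₁ W₂)
    (hv : v ∈ W₁ ⊔ W₂) (hv₁ : v ∉ W₁) (hv₂ : v ∉ W₂) (hgv : g * v * g⁻¹ ∈ W₁ ⊔ W₂)
    (hgv₁ : g * v * g⁻¹ ∉ W₁) (hgv₂ : g * v * g⁻¹ ∉ W₂) [Finite G] : g ∈ W₁ ⊔ W₂ := by
  obtain ⟨_, _, _, _, hcyc, hN⟩ := hW
  have hNsingle : ∀ u : G, u ∈ W₁ ⊔ W₂ → u ∉ W₁ → u ∉ W₂ →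
      ∀ c : G, (c * u * c⁻¹ = u ↔ c ∈ W₁ ⊔ W₂) := by
    intro u hu hu₁ hu₂ c
    have hX : ({u} : Set G) ⊆ (↑(W₁ ⊔ W₂) : Set G) \ (↑W₁ ∪ ↑W₂) :=
      Set.singleton_subset_iff.mpr ⟨hu, fun h => h.elim hu₁ hu₂⟩
    rw [← hN {u} hX (Set.singleton_nonempty u), Subgroup.mem_set_normalizer_iff]
    constructor
    · intro h n
      simp only [Set.mem_singleton_iff]
      constructor
      · rintro rfl; exact h
      · intro hn; exact mul_left_cancel (mul_right_cancel (hn.trans h.symm))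
    · intro h; simpa using (h u).mp rfl
  -- `g` normalises `W`
  have hgW : ∀ c ∈ W₁ ⊔ W₂, g * c * g⁻¹ ∈ W₁ ⊔ W₂ := by
    intro c hc
    rw [← hNsingle _ hgv hgv₁ hgv₂]
    have e : g * c * g⁻¹ * (g * v * g⁻¹) * (g * c * g⁻¹)⁻¹ = g * (c * v * c⁻¹) * g⁻¹ := by group
    rw [e, (hNsingle v hv hv₁ hv₂ c).mpr hc]
  have hord : ∀ S : Subgroup G, S ≤ W₁ ⊔ W₂ → ∀ c ∈ S, g * c * g⁻¹ ∈ S := by
    intro S hS c hc
    let f : ↥(W₁ ⊔ W₂) →* ↥(W₁ ⊔ W₂) :=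
      { toFun := fun x => ⟨g * x * g⁻¹, hgW x x.2⟩
        map_one' := Subtype.ext (by simp)
        map_mul' := fun x y => Subtype.ext (by simp [mul_assoc]) }
    haveI := hcyc
    obtain ⟨m, hm⟩ := MonoidHom.map_cyclic f
    have h1 : g * c * g⁻¹ = c ^ m := congrArg Subtype.val (hm ⟨c, hS hc⟩)
    rw [h1]
    exact zpow_mem hc m
  let X : Set G := (↑(W₁ ⊔ W₂) : Set G) \ (↑W₁ ∪ ↑W₂)
  have hgX : g ∈ Subgroup.normalizer X := by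
    have hinv : ∀ S : Subgroup G, S ≤ W₁ ⊔ W₂ → ∀ c : G, g * c * g⁻¹ ∈ S → c ∈ S := by
      intro S hS c hc
      have hmap : Function.Surjective (fun x : S => (⟨g * x * g⁻¹, hord S hS x x.2⟩ : S)) :=
        Finite.injective_iff_surjective.mp fun x y h => Subtype.ext
          (mul_left_cancel (mul_right_cancel (congrArg Subtype.val h)))
      obtain ⟨d, hd⟩ := hmap ⟨_, hc⟩
      have : (d : G) = c := mul_left_cancel (mul_right_cancel (congrArg Subtype.val hd))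
      exact this ▸ d.2
    rw [Subgroup.mem_set_normalizer_iff]
    intro c
    constructor
    · rintro ⟨hc, hc'⟩
      exact ⟨hgW c hc, fun h => hc' (h.imp (hinv W₁ le_sup_left c) (hinv W₂ le_sup_right c))⟩
    · rintro ⟨hc, hc'⟩
      exact ⟨hinv _ le_rfl c hc, fun h => hc' (h.imp (hord W₁ le_sup_left c) (hord W₂ le_sup_right c))⟩
  rwa [hN X subset_rfl ⟨v, hv, fun h => h.elim hv₁ hv₂⟩] at hgX

variable [Fintype G]

/-- Induction restricted back to `W` does nothing to `(1-φ)(1-ψ)` off `W₁ ∪ W₂`. -/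
theorem indFun_cycAlpha_apply (hW : Cfsg.IsSelfNormalizingCyclic W₁ W₂)
    {φ ψ : ↥(W₁ ⊔ W₂) →* ℂˣ} (hφ : TrivR φ) (hψ : TrivL ψ) (v : ↥(W₁ ⊔ W₂))
    (hv₁ : (v : G) ∉ W₁) (hv₂ : (v : G) ∉ W₂) :
    Cfsg.indFun (W₁ ⊔ W₂) (cycAlpha φ ψ) v = cycAlpha φ ψ v := by
  classical
  have h : ∀ x : G, Cfsg.extendByZero (W₁ ⊔ W₂) (cycAlpha φ ψ) (x⁻¹ * v * x)
      = if x ∈ W₁ ⊔ W₂ then cycAlpha φ ψ v else 0 := by
    intro x
    split_ifs with hx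
    · have := CharInduce.extendByZero_conj (cycAlpha_isClassFunction hW.2.2.2.2.1 φ ψ)
        (inv_mem hx) (v : G)
      rw [inv_inv, CharInduce.extendByZero_coe] at this
      exact this
    · by_cases hy : x⁻¹ * (v : G) * x ∈ W₁ ⊔ W₂
      · rw [CharInduce.extendByZero_of_mem _ hy]
        refine cycAlpha_zero hφ hψ _ ?_
        by_contra hne
        push Not at hne
        apply hx
        have := conj_mem_V (g := x⁻¹) hW v.2 hv₁ hv₂ (by simpa using hy) (by simpa using hne.1)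
          (by simpa using hne.2)
        simpa using inv_mem this
      · rw [CharInduce.extendByZero_of_not_mem _ hy]
  simp only [CharInduce.indFun_apply, h]
  rw [← Finset.sum_filter, Finset.sum_const, nsmul_eq_mul, ← Fintype.card_subtype,
    ← Nat.card_eq_fintype_card, ← mul_assoc,
    inv_mul_cancel₀ (CharInduce.card_ne_zero_complex _), one_mul]

open scoped Classical in
/-- A function on `W` orthogonal to all `(1-φ)(1-ψ)` vanishes outside `W₁ ∪ W₂`. -/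
theorem eq_zero_of_orth (hW : Cfsg.IsSelfNormalizingCyclic W₁ W₂) [Fintype ↥(W₁ ⊔ W₂)]
    (f : ↥(W₁ ⊔ W₂) → ℂ)
    (horth : ∀ φ ψ, TrivR φ → TrivL ψ → φ ≠ 1 → ψ ≠ 1 → Cfsg.classInner f (cycAlpha φ ψ) = 0)
    (v : ↥(W₁ ⊔ W₂)) (hv₁ : (v : G) ∉ W₁) (hv₂ : (v : G) ∉ W₂) : f v = 0 := by
  haveI : IsCyclic ↥(W₁ ⊔ W₂) := hW.2.2.2.2.1
  set S₁ := W₁.subgroupOf (W₁ ⊔ W₂) with hS₁
  set S₂ := W₂.subgroupOf (W₁ ⊔ W₂) with hS₂
  set P := Finset.univ.filter fun φ : ↥(W₁ ⊔ W₂) →* ℂˣ => ∀ y ∈ S₂, φ y = 1 with hP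
  set Q := Finset.univ.filter fun ψ : ↥(W₁ ⊔ W₂) →* ℂˣ => ∀ y ∈ S₁, ψ y = 1 with hQ
  have hvS₁ : v⁻¹ ∉ S₁ := by rw [inv_mem_iff, hS₁, Subgroup.mem_subgroupOf]; exact hv₁
  have hvS₂ : v⁻¹ ∉ S₂ := by rw [inv_mem_iff, hS₂, Subgroup.mem_subgroupOf]; exact hv₂
  have key : ∀ w, ∑ φ ∈ P, ∑ ψ ∈ Q, conj (φ v : ℂ) * conj (ψ v : ℂ) * cycAlpha φ ψ w
      = if w = v then (P.card : ℂ) * Q.card else 0 := by
    intro w
    have hsplit : ∑ φ ∈ P, ∑ ψ ∈ Q, conj (φ v : ℂ) * conj (ψ v : ℂ) * cycAlpha φ ψ w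
        = (∑ φ ∈ P, conj (φ v : ℂ) * (1 - (φ w : ℂ))) * ∑ ψ ∈ Q, conj (ψ v : ℂ) * (1 - (ψ w : ℂ)) := by
      rw [Finset.sum_mul_sum]
      refine Finset.sum_congr rfl fun φ _ => Finset.sum_congr rfl fun ψ _ => ?_
      rw [cycAlpha_eq_mul]; ring
    have hterm : ∀ φ : ↥(W₁ ⊔ W₂) →* ℂˣ, conj (φ v : ℂ) * (1 - (φ w : ℂ))
        = (φ v⁻¹ : ℂ) - (φ (v⁻¹ * w) : ℂ) := by
      intro φ; rw [linear_conj, map_mul, Units.val_mul]; ring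
    have eP : ∀ x, ∑ φ ∈ P, (φ x : ℂ) = if x ∈ S₂ then (P.card : ℂ) else 0 := by
      intro x; rw [hP]; convert sum_linear_trivial_on S₂ x using 6
    have eQ : ∀ x, ∑ ψ ∈ Q, (ψ x : ℂ) = if x ∈ S₁ then (Q.card : ℂ) else 0 := by
      intro x; rw [hQ]; convert sum_linear_trivial_on S₁ x using 6
    rw [hsplit]
    simp only [hterm, Finset.sum_sub_distrib, eP, eQ, hvS₁, hvS₂, if_false, zero_sub]
    by_cases hw : w = v
    · subst hw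
      simp [one_mem]
    · rw [if_neg hw]
      have : v⁻¹ * w ∉ S₂ ∨ v⁻¹ * w ∉ S₁ := by
        by_contra hh
        push Not at hh
        apply hw
        have h1 : ((v⁻¹ * w : ↥(W₁ ⊔ W₂)) : G) ∈ W₁ ⊓ W₂ :=
          Subgroup.mem_inf.mpr ⟨Subgroup.mem_subgroupOf.mp hh.2, Subgroup.mem_subgroupOf.mp hh.1⟩
        rw [hW.2.2.1, Subgroup.mem_bot, OneMemClass.coe_eq_one, inv_mul_eq_one] at h1
        exact h1.symm
      rcases this with h | h <;> simp [h]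
  have h0 : ∀ φ ∈ P, ∀ ψ ∈ Q, ∑ w, f w * conj (cycAlpha φ ψ w) = 0 := by
    intro φ hφ ψ hψ
    have hφR : TrivR φ := fun w hw => (Finset.mem_filter.mp hφ).2 w (Subgroup.mem_subgroupOf.mpr hw)
    have hψL : TrivL ψ := fun w hw => (Finset.mem_filter.mp hψ).2 w (Subgroup.mem_subgroupOf.mpr hw)
    by_cases h1 : φ = 1
    · simp [h1, cycAlpha]
    by_cases h2 : ψ = 1
    · simp [h2, cycAlpha]
    have := horth φ ψ hφR hψL h1 h2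
    rw [CharBasic.classInner_def, mul_eq_zero] at this
    exact this.resolve_left (inv_ne_zero (CharInduce.card_ne_zero_complex _))
  have hsum : ∑ w, f w * conj (∑ φ ∈ P, ∑ ψ ∈ Q, conj (φ v : ℂ) * conj (ψ v : ℂ) * cycAlpha φ ψ w)
      = 0 := by
    simp only [map_sum, Finset.mul_sum]
    rw [Finset.sum_comm]
    refine Finset.sum_eq_zero fun φ hφ => ?_
    rw [Finset.sum_comm]
    refine Finset.sum_eq_zero fun ψ hψ => ?_
    calc ∑ w, f w * conj (conj (φ v : ℂ) * conj (ψ v : ℂ) * cycAlpha φ ψ w)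
        = conj (conj (φ v : ℂ) * conj (ψ v : ℂ)) * ∑ w, f w * conj (cycAlpha φ ψ w) := by
          rw [Finset.mul_sum]
          exact Finset.sum_congr rfl fun w _ => by rw [map_mul]; ring
      _ = 0 := by rw [h0 φ hφ ψ hψ, mul_zero]
  simp only [key] at hsum
  rw [Finset.sum_eq_single v (fun w _ hw => by simp [hw]) (by simp)] at hsum
  simp only [if_true, map_mul, map_natCast, mul_eq_zero, Nat.cast_eq_zero] at hsum
  have hPne : P.card ≠ 0 := (Finset.card_pos.mpr ⟨1, by simp [hP]⟩).ne'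
  have hQne : Q.card ≠ 0 := (Finset.card_pos.mpr ⟨1, by simp [hQ]⟩).ne'
  exact hsum.resolve_right (not_or.mpr ⟨hPne, hQne⟩)

variable {χ : (↥(W₁ ⊔ W₂) →* ℂˣ) → (G → ℂ)}

theorem inner_indFun_family (hχ : Cfsg.IsCyclicTIFamily W₁ W₂ χ) (θ : G → ℂ)
    {φ ψ : ↥(W₁ ⊔ W₂) →* ℂˣ} (hφ : TrivR φ) (hψ : TrivL ψ) (hφ1 : φ ≠ 1) (hψ1 : ψ ≠ 1) :
    Cfsg.classInner θ (Cfsg.indFun (W₁ ⊔ W₂) (cycAlpha φ ψ))
      = Cfsg.classInner θ (χ 1) - Cfsg.classInner θ (χ φ) - Cfsg.classInner θ (χ ψ)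
        + Cfsg.classInner θ (χ (φ * ψ)) := by
  have h := hχ.induced_eq φ ψ hφ1 hψ1 hφ hψ
  unfold cycAlpha
  rw [h]
  have e : (fun g : G => 1 - χ φ g - χ ψ g + χ (φ * ψ) g) = χ 1 - χ φ - χ ψ + χ (φ * ψ) := by
    rw [hχ.map_one]; rfl
  rw [e, CharBasic.classInner_add_right, CharBasic.classInner_sub_right,
    CharBasic.classInner_sub_right]

open scoped Classical in
/-- A class function orthogonal to the whole family vanishes outside `W₁ ∪ W₂`. -/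
theorem family_orth_zero (hW : Cfsg.IsSelfNormalizingCyclic W₁ W₂)
    (hχ : Cfsg.IsCyclicTIFamily W₁ W₂ χ) (θ : G → ℂ) (hθ : Cfsg.IsClassFunction G θ)
    (horth : ∀ ω, Cfsg.classInner θ (χ ω) = 0) (v : ↥(W₁ ⊔ W₂))
    (hv₁ : (v : G) ∉ W₁) (hv₂ : (v : G) ∉ W₂) : θ v = 0 := by
  haveI : Fintype ↥(W₁ ⊔ W₂) := Fintype.ofFinite _
  refine eq_zero_of_orth hW (fun w => θ w) (fun φ ψ hφ hψ h1 h2 => ?_) v hv₁ hv₂
  rw [← CharInduce.classInner_indFun_right (W₁ ⊔ W₂) (cycAlpha φ ψ) θ hθ,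
    inner_indFun_family hχ θ hφ hψ h1 h2]
  simp [horth]

/-- The four-term relation for class functions vanishing outside `W₁ ∪ W₂`. -/
theorem family_relation (hW : Cfsg.IsSelfNormalizingCyclic W₁ W₂)
    (hχ : Cfsg.IsCyclicTIFamily W₁ W₂ χ) (θ : G → ℂ) (hθ : Cfsg.IsClassFunction G θ)
    (hθV : ∀ w : ↥(W₁ ⊔ W₂), (w : G) ∉ W₁ → (w : G) ∉ W₂ → θ w = 0)
    {φ ψ : ↥(W₁ ⊔ W₂) →* ℂˣ} (hφ : TrivR φ) (hψ : TrivL ψ) :
    Cfsg.classInner θ (χ (φ * ψ))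
      = Cfsg.classInner θ (χ φ) + Cfsg.classInner θ (χ ψ) - Cfsg.classInner θ (χ 1) := by
  classical
  haveI : Fintype ↥(W₁ ⊔ W₂) := Fintype.ofFinite _
  by_cases h1 : φ = 1
  · subst h1
    rw [show (1 * ψ : ↥(W₁ ⊔ W₂) →* ℂˣ) = ψ from one_mul ψ]; ring
  by_cases h2 : ψ = 1
  · subst h2
    rw [show (φ * 1 : ↥(W₁ ⊔ W₂) →* ℂˣ) = φ from mul_one φ]; ring
  have h0 : Cfsg.classInner (fun w : ↥(W₁ ⊔ W₂) => θ w) (cycAlpha φ ψ) = 0 := by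
    rw [CharBasic.classInner_def, Finset.sum_eq_zero, mul_zero]
    intro w _
    by_cases hw : (w : G) ∈ W₁ ∨ (w : G) ∈ W₂
    · rw [cycAlpha_zero hφ hψ w hw, map_zero, mul_zero]
    · push Not at hw
      rw [hθV w hw.1 hw.2, zero_mul]
  rw [← CharInduce.classInner_indFun_right (W₁ ⊔ W₂) (cycAlpha φ ψ) θ hθ,
    inner_indFun_family hχ θ hφ hψ h1 h2] at h0
  linear_combination h0

end Cfsg.Agent.H43
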