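import Mathlib
import Cfsg.Prelude.Def_OddOrderChar
import Cfsg.Agent.CharBasic.Orth
import Cfsg.Agent.H43.Virtual
import Cfsg.Agent.H43.Isometry
import Cfsg.Agent.H43.Coherence
import Cfsg.Agent.S1515

/-!
Consequences of the coherence-system axioms.
-/

set_option autoImplicit false

open scoped ComplexConjugate

namespace Cfsg.Agent.H43

open Cfsg.Agent.CharBasic

universe u v

variable {L : Type u} [Group L] [Fintype L] {G : Type v} [Group G] [Fintype G]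
  {S : Set (L → ℂ)} {τ : (L → ℂ) → (G → ℂ)} {R : (L → ℂ) → Finset (G → ℂ)}

theorem conjFun_conjFun {X : Type*} (χ : X → ℂ) : Cfsg.conjFun (Cfsg.conjFun χ) = χ :=
  funext fun g => Complex.conj_conj _

theorem sys_ne_zero (hS : Cfsg.IsCoherenceSystem S τ R) {χ : L → ℂ} (hχ : χ ∈ S) : χ ≠ 0 := by
  intro h
  apply hS.conj_ne χ hχ
  subst h
  funext g
  simp [Cfsg.conjFun]

theorem sys_degree (hS : Cfsg.IsCoherenceSystem S τ R) {χ : L → ℂ} (hχ : χ ∈ S) :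
    ∃ d : ℕ, 0 < d ∧ χ 1 = (d : ℂ) ∧ Cfsg.conjFun χ 1 = (d : ℂ) := by
  obtain ⟨d, hd⟩ := IsChar.exists_degree (hS.isCharacter χ hχ)
  refine ⟨d, Nat.pos_of_ne_zero fun h0 => sys_ne_zero hS hχ ?_, hd, by simp [Cfsg.conjFun, hd]⟩
  subst h0
  funext g
  have h := IsChar.norm_le (hS.isCharacter χ hχ) g
  rw [hd] at h
  simpa using h

theorem sys_norm (hS : Cfsg.IsCoherenceSystem S τ R) {χ : L → ℂ} (hχ : χ ∈ S) :
    ∃ n : ℕ, 0 < n ∧ Cfsg.classInner χ χ = (n : ℂ) ∧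
      Cfsg.classInner (Cfsg.conjFun χ) (Cfsg.conjFun χ) = (n : ℂ) := by
  obtain ⟨n, hn⟩ := classInner_isChar_nat (hS.isCharacter χ hχ) (hS.isCharacter χ hχ)
  refine ⟨n, Nat.pos_of_ne_zero fun h0 => sys_ne_zero hS hχ ?_, hn, ?_⟩
  · rw [← classInner_self_eq_zero, hn, h0, Nat.cast_zero]
  · rw [classInner_conjFun, hn, map_natCast]

theorem sys_orth_conj (hS : Cfsg.IsCoherenceSystem S τ R) {χ : L → ℂ} (hχ : χ ∈ S) :
    Cfsg.classInner χ (Cfsg.conjFun χ) = 0 ∧ Cfsg.classInner (Cfsg.conjFun χ) χ = 0 :=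
  ⟨hS.orthogonal χ hχ _ (hS.conj_mem χ hχ) (hS.conj_ne χ hχ).symm,
    hS.orthogonal _ (hS.conj_mem χ hχ) χ hχ (hS.conj_ne χ hχ)⟩

theorem sys_diff_mem (hS : Cfsg.IsCoherenceSystem S τ R) {χ : L → ℂ} (hχ : χ ∈ S) :
    χ - Cfsg.conjFun χ ∈ Cfsg.zspanOn S ({1}ᶜ : Set L) := by
  obtain ⟨d, -, hd, hd'⟩ := sys_degree hS hχ
  exact zspanOn_compl_one.mpr
    ⟨zspan_sub (zspan_mem hχ) (zspan_mem (hS.conj_mem χ hχ)), by simp [hd, hd']⟩

/-- The sets `R χ` and `R φ` are orthogonal for members outside a conjugate pair. -/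
theorem sys_R_orth (hS : Cfsg.IsCoherenceSystem S τ R) {χ φ : L → ℂ} (hχ : χ ∈ S) (hφ : φ ∈ S)
    (h1 : φ ≠ χ) (h2 : φ ≠ Cfsg.conjFun χ) :
    ∀ α ∈ R φ, ∀ β ∈ R χ, Cfsg.classInner α β = 0 :=
  hS.disjoint χ hχ φ hφ (hS.orthogonal φ hφ χ hχ h1)
    (hS.orthogonal φ hφ _ (hS.conj_mem χ hχ) h2)

open scoped Classical in
theorem sys_card_R (hS : Cfsg.IsCoherenceSystem S τ R) {χ : L → ℂ} (hχ : χ ∈ S) {n : ℕ}
    (hn : Cfsg.classInner χ χ = (n : ℂ)) : (R χ).card = 2 * n := by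
  have h := iso_inner hS.isometry (sys_diff_mem hS hχ) (sys_diff_mem hS hχ)
  obtain ⟨o1, o2⟩ := sys_orth_conj hS hχ
  rw [hS.sum_eq χ hχ, classInner_sum_left] at h
  simp only [classInner_sum_right, classInner_sub_left, classInner_sub_right, o1, o2, hn,
    classInner_conjFun, map_natCast, sub_zero, zero_sub, sub_neg_eq_add] at h
  rw [Finset.sum_congr rfl (fun α hα => Finset.sum_eq_single α
    (fun β hβ hne => by rw [hS.orthonormal χ hχ α hα β hβ, if_neg (Ne.symm hne)])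
    (fun h' => absurd hα h')), Finset.sum_congr rfl (fun α hα => by
      rw [hS.orthonormal χ hχ α hα α hα, if_pos rfl]), Finset.sum_const, nsmul_eq_mul, mul_one] at h
  have : ((R χ).card : ℂ) = ((2 * n : ℕ) : ℂ) := by push_cast; rw [h]; ring
  exact_mod_cast this

theorem sys_pair_subset (hS : Cfsg.IsCoherenceSystem S τ R) {χ ψ : L → ℂ} (hχ : χ ∈ S)
    (hψ : ψ ∈ Cfsg.zspan S) (hdeg : χ 1 = ψ 1) :
    Cfsg.zspan ({χ - ψ, χ - Cfsg.conjFun χ} : Set (L → ℂ)) ⊆ Cfsg.zspanOn S ({1}ᶜ : Set L) := by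
  let M : Submodule ℤ (L → ℂ) :=
    { carrier := Cfsg.zspanOn S ({1}ᶜ : Set L)
      add_mem' := fun h h' => zspanOn_add h h'
      zero_mem' := zspanOn_zero
      smul_mem' := fun n _ h => zspanOn_zsmul h n }
  have h : Submodule.span ℤ ({χ - ψ, χ - Cfsg.conjFun χ} : Set (L → ℂ)) ≤ M := by
    rw [Submodule.span_le]
    rintro x (rfl | rfl)
    · exact zspanOn_compl_one.mpr ⟨zspan_sub (zspan_mem hχ) hψ, by simp [hdeg]⟩
    · exact sys_diff_mem hS hχ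
  exact h

/-- The part of `τ(χ − ψ)` along `R χ`. -/
theorem sys_part (hS : Cfsg.IsCoherenceSystem S τ R) {χ ψ : L → ℂ} (hχ : χ ∈ S)
    (hψ : ψ ∈ Cfsg.zspan S) (h1 : Cfsg.classInner χ ψ = 0)
    (h2 : Cfsg.classInner (Cfsg.conjFun χ) ψ = 0) (hdeg : χ 1 = ψ 1) :
    (Cfsg.classInner χ χ).re ≤ ∑ α ∈ R χ, ‖Cfsg.classInner (τ (χ - ψ)) α‖ ^ 2 ∧
    ((Cfsg.classInner ψ ψ).re ≤ (Cfsg.classInner (τ (χ - ψ)) (τ (χ - ψ))).re
        - ∑ α ∈ R χ, ‖Cfsg.classInner (τ (χ - ψ)) α‖ ^ 2 →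
      ∀ α ∈ R χ, Cfsg.classInner (τ (χ - ψ)) α = 0 ∨ Cfsg.classInner (τ (χ - ψ)) α = 1) := by
  have hsub := sys_pair_subset hS hχ hψ hdeg
  have hiso : Cfsg.IsLinearIsometryOn (Cfsg.zspan ({χ - ψ, χ - Cfsg.conjFun χ} : Set (L → ℂ))) τ :=
    ⟨fun a ha b hb => hS.isometry.1 a (hsub ha) b (hsub hb),
      fun a ha n => hS.isometry.2.1 a (hsub ha) n,
      fun a ha b hb => hS.isometry.2.2.1 a (hsub ha) b (hsub hb),
      fun a ha => hS.isometry.2.2.2 a (hsub ha)⟩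
  obtain ⟨ha, hb⟩ := Cfsg.Agent.S1515.result S τ R hS χ hχ ψ hψ h1 h2 τ hiso (fun _ => rfl)
  exact ⟨ha, fun h => (hb h).2⟩

/-- An isometric extension sends a member `ξ` into the span of `R ξ`. -/
theorem sys_image_eq_proj (hS : Cfsg.IsCoherenceSystem S τ R) {T : Set (L → ℂ)} {f : (L → ℂ) → (G → ℂ)}
    (hf : Cfsg.IsLinearIsometryOn (Cfsg.zspan T) f)
    (hagree : ∀ α ∈ Cfsg.zspanOn T ({1}ᶜ : Set L), f α = τ α)
    {ξ : L → ℂ} (hξ : ξ ∈ S) (hξT : ξ ∈ T) (hξT' : Cfsg.conjFun ξ ∈ T) :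
    f ξ = proj (R ξ) (f ξ) := by
  obtain ⟨n, -, hn, -⟩ := sys_norm hS hξ
  have hsub : Cfsg.zspan ({ξ - 0, ξ - Cfsg.conjFun ξ} : Set (L → ℂ)) ⊆ Cfsg.zspan T := by
    refine fun x hx => Submodule.span_le.mpr ?_ hx
    rintro y (rfl | rfl)
    · rw [sub_zero]; exact zspan_mem hξT
    · exact zspan_sub (zspan_mem hξT) (zspan_mem hξT')
  have hiso : Cfsg.IsLinearIsometryOn (Cfsg.zspan ({ξ - 0, ξ - Cfsg.conjFun ξ} : Set (L → ℂ))) f :=
    ⟨fun a ha b hb => hf.1 a (hsub ha) b (hsub hb), fun a ha n => hf.2.1 a (hsub ha) n,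
      fun a ha b hb => hf.2.2.1 a (hsub ha) b (hsub hb), fun a ha => hf.2.2.2 a (hsub ha)⟩
  have hd : ∀ k : ℤ, k • (ξ - Cfsg.conjFun ξ) ∈ Cfsg.zspanOn T ({1}ᶜ : Set L) := by
    intro k
    obtain ⟨d, -, e, e'⟩ := sys_degree hS hξ
    exact zspanOn_zsmul (zspanOn_compl_one.mpr
      ⟨zspan_sub (zspan_mem hξT) (zspan_mem hξT'), by simp [e, e']⟩) k
  obtain ⟨ha, hb⟩ := Cfsg.Agent.S1515.result S τ R hS ξ hξ 0 zspan_zero (by simp) (by simp) f hiso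
    (fun k => hagree _ (hd k))
  rw [sub_zero] at ha hb
  classical
  refine eq_proj_of_norm (hS.orthonormal ξ hξ) (f ξ) ?_
  have hN : Cfsg.classInner (f ξ) (f ξ) = (n : ℂ) := by
    rw [iso_inner hf (zspan_mem hξT) (zspan_mem hξT), hn]
  obtain ⟨p1, p2⟩ := proj_norm (hS.orthonormal ξ hξ) (f ξ)
  set s : ℝ := ∑ α ∈ R ξ, ‖Cfsg.classInner (f ξ) α‖ ^ 2 with hs
  have hge : (n : ℝ) ≤ s := by
    have := ha; rw [hn] at this; simpa using this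
  have hnn : 0 ≤ (Cfsg.classInner (f ξ - proj (R ξ) (f ξ)) (f ξ - proj (R ξ) (f ξ))).re :=
    classInner_self_re_nonneg _
  rw [classInner_sub_left, classInner_sub_right, classInner_sub_right, hN, p1, p2,
    ← classInner_conj_symm (f ξ), p2, Complex.conj_ofReal] at hnn
  simp at hnn
  have : s = n := by linarith
  rw [hN, this, Complex.ofReal_natCast]

end Cfsg.Agent.H43
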