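import Mathlib
import Cfsg.Prelude.Def_KGroupFacts
import Cfsg.Prelude.Def_Spor_J1
import Cfsg.Agent.H56.OutPSL
import Cfsg.Agent.Linear.Order
import Cfsg.Agent.S4593
import Cfsg.Agent.S2065
import Cfsg.Agent.Cores.PCore
import Cfsg.Prelude.Def_CaseTheorems

/-!
# Automorphisms centralising a Sylow subgroup, groups with abelian Sylow subgroups
-/

set_option autoImplicit false
set_option linter.style.haveILetI false

namespace Cfsg.Agent.H43.AbelianSylowAut

open Matrix Subgroup
open scoped Pointwise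
open scoped MatrixGroups

section General

variable {G : Type*} [Group G]

theorem center_eq_bot [IsSimpleGroup G] (hna : ¬ IsMulCommutative G) : center G = ⊥ := by
  rcases (center G).normal_of_characteristic.eq_bot_or_eq_top with h | h
  · exact h
  · exact absurd ⟨⟨fun a b => (mem_center_iff.1 (h ▸ mem_top b : b ∈ center G) a)⟩⟩ hna

theorem conj_injective (hZ : center G = ⊥) :
    Function.Injective (MulAut.conj : G →* MulAut G) := by
  refine (injective_iff_map_eq_one _).2 fun g hg => ?_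
  have : g ∈ center G := by
    refine mem_center_iff.2 fun h => ?_
    have h1 := MulEquiv.congr_fun hg h
    rw [MulAut.conj_apply, MulAut.one_apply] at h1
    calc h * g = g * h * g⁻¹ * g := by rw [h1]
      _ = g * h := by group
  rwa [hZ, mem_bot] at this

theorem mul_conj_eq (k : MulAut G) (x : G) :
    k * MulAut.conj x * k⁻¹ = MulAut.conj (k x) := by
  ext y
  simp [MulAut.mul_apply, MulAut.inv_def]

/-- In a subgroup `K ≥ Inn G` of `Aut G` whose `r`-elements over a cyclic `r`-quotient are generated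
by `a` and inner ones, every `r`-element fixes a Sylow `r`-subgroup pointwise. -/
theorem fixes_sylow [Finite G] {r : ℕ} [Fact r.Prime] (hZ : center G = ⊥) (R : Sylow r G)
    (hR : IsMulCommutative ↥(R : Subgroup G)) (K : Subgroup (MulAut G))
    (hInn : Cfsg.Inn G ≤ K) (a : MulAut G) (haK : a ∈ K) {j : ℕ} (ha : a ^ r ^ j = 1)
    (hfix : ∀ x ∈ (R : Subgroup G), a x = x)
    (hgen : ∀ s ∈ K, ∃ m : ℤ, (∃ i : ℕ, (a ^ m * s) ^ r ^ i = 1) → a ^ m * s ∈ Cfsg.Inn G)
    (b : MulAut G) (hbK : b ∈ K) (hb : b ^ r = 1) :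
    ∃ k : MulAut G, ∀ x ∈ (R : Subgroup G), b (k x) = k x := by
  let R' : Subgroup (MulAut G) := (R : Subgroup G).map (MulAut.conj : G →* MulAut G)
  let Q : Subgroup (MulAut G) := R' ⊔ zpowers a
  have hcomm : ∀ u ∈ R', a * u = u * a := by
    rintro u ⟨x, hx, rfl⟩
    ext y
    simp [MulAut.mul_apply, hfix x hx]
  have hQK : Q ≤ K := sup_le (fun u hu => by
    obtain ⟨x, -, rfl⟩ := hu; exact hInn ⟨x, rfl⟩) (zpowers_le.2 haK)
  have hQc : Q ≤ centralizer (Q : Set (MulAut G)) := by
    have h1 : R' ≤ centralizer (Q : Set (MulAut G)) := by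
      rw [le_centralizer_iff]
      refine sup_le ?_ ?_
      · rintro u ⟨x, hx, rfl⟩
        rw [mem_centralizer_iff]
        rintro v ⟨y, hy, rfl⟩
        rw [← map_mul, ← map_mul]
        congr 1
        exact congrArg Subtype.val (hR.is_comm.comm ⟨y, hy⟩ ⟨x, hx⟩)
      · rw [zpowers_le, mem_centralizer_iff]
        intro u hu
        exact (hcomm u hu).symm
    refine sup_le h1 ?_
    rw [le_centralizer_iff]
    refine sup_le ?_ ?_
    · intro u hu
      rw [mem_centralizer_iff]
      rintro v ⟨m, rfl⟩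
      exact (Commute.zpow_left (hcomm u hu) m).eq
    · rintro u ⟨m, rfl⟩
      rw [mem_centralizer_iff]
      rintro v ⟨l, rfl⟩
      exact (Commute.zpow_zpow_self a l m).eq
  have hQp : IsPGroup r Q := by
    show IsPGroup r ↥(R' ⊔ zpowers a)
    rw [sup_comm]
    refine IsPGroup.to_sup_of_normal_right' ?_ (R.isPGroup'.map _) ?_
    · exact fun x => ⟨j, by
        obtain ⟨x, m, rfl⟩ := x
        apply Subtype.ext
        show (a ^ m) ^ r ^ j = 1
        rw [← zpow_natCast, ← _root_.zpow_mul, mul_comm, _root_.zpow_mul, zpow_natCast, ha,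
          _root_.one_zpow]⟩
    · rw [zpowers_le, mem_normalizer_iff]
      intro u
      have h0 : ∀ v ∈ R', a * v * a⁻¹ = v := fun v hv => by rw [hcomm v hv, mul_inv_cancel_right]
      refine ⟨fun hu => by show a * u * a⁻¹ ∈ R'; rw [h0 u hu]; exact hu, fun hu => ?_⟩
      have h1 := h0 _ hu
      have h2 : a * u * a⁻¹ = u := by
        have := congrArg (fun w => a⁻¹ * w * a) h1
        simpa [mul_assoc] using this
      rwa [h2] at hu
  have hQp' : IsPGroup r (Q.subgroupOf K) :=
    hQp.comap_of_injective K.subtype K.subtype_injective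
  obtain ⟨S, hS⟩ := hQp'.exists_le_sylow
  have hSQ : (S : Subgroup K) ≤ Q.subgroupOf K := by
    intro s hs
    rw [mem_subgroupOf]
    obtain ⟨m, hm⟩ := hgen s s.2
    have hmem : (⟨a ^ m * s, mul_mem (zpow_mem haK m) s.2⟩ : K) ∈ (S : Subgroup K) := by
      have : (⟨a ^ m * s, mul_mem (zpow_mem haK m) s.2⟩ : K) =
          (⟨a ^ m, zpow_mem haK m⟩ : K) * s := rfl
      rw [this]
      exact mul_mem (hS (mem_subgroupOf.2 (mem_sup_right (zpow_mem (mem_zpowers a) m)))) hs
    obtain ⟨i, hi⟩ := S.isPGroup' ⟨_, hmem⟩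
    obtain ⟨x, hx⟩ := hm ⟨i, congrArg (fun w : (S : Subgroup K) => ((w : K) : MulAut G)) hi⟩
    let R₂ : Subgroup G := ((S : Subgroup K).map K.subtype).comap MulAut.conj
    have hR₂ : IsPGroup r R₂ :=
      (S.isPGroup'.map _).comap_of_injective _ (conj_injective hZ)
    have hle : (R : Subgroup G) ≤ R₂ := fun y hy => by
      refine ⟨⟨MulAut.conj y, hInn ⟨y, rfl⟩⟩, hS (mem_subgroupOf.2 ?_), rfl⟩
      exact mem_sup_left ⟨y, hy, rfl⟩
    have hxR : x ∈ (R : Subgroup G) := by
      rw [← R.is_maximal' hR₂ hle]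
      exact ⟨_, hmem, hx.symm⟩
    have h' : (s : MulAut G) = (a ^ m)⁻¹ * MulAut.conj x := by rw [hx, inv_mul_cancel_left]
    rw [h']
    exact mul_mem (inv_mem (mem_sup_right (zpow_mem (mem_zpowers a) m)))
      (mem_sup_left ⟨x, hxR, rfl⟩)
  have hbp : IsPGroup r (zpowers (⟨b, hbK⟩ : K)) := fun x => ⟨1, by
    obtain ⟨x, m, rfl⟩ := x
    apply Subtype.ext
    apply Subtype.ext
    show (b ^ m) ^ r ^ 1 = 1
    rw [pow_one, ← zpow_natCast, ← _root_.zpow_mul, mul_comm, _root_.zpow_mul, zpow_natCast, hb,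
      _root_.one_zpow]⟩
  obtain ⟨T, hT⟩ := hbp.exists_le_sylow
  obtain ⟨k, hk⟩ := MulAction.exists_smul_eq K S T
  refine ⟨k, fun x hx => ?_⟩
  have hbT : (⟨b, hbK⟩ : K) ∈ (k • S : Sylow r K) := hk ▸ hT (mem_zpowers _)
  replace hbT : (⟨b, hbK⟩ : K) ∈ MulAut.conj k • (S : Subgroup K) := hbT
  rw [Subgroup.mem_pointwise_smul_iff_inv_smul_mem] at hbT
  have hc : ((k : MulAut G)⁻¹ * b * (k : MulAut G)) ∈ Q := by
    have := mem_subgroupOf.1 (hSQ hbT)
    simpa [MulAut.smul_def] using this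
  have h1 := mem_centralizer_iff.1 (hQc hc) (MulAut.conj x) (mem_sup_left ⟨x, hx, rfl⟩)
  have h2 : b * MulAut.conj ((k : MulAut G) x) = MulAut.conj ((k : MulAut G) x) * b := by
    rw [← mul_conj_eq]
    have := congrArg (fun w => (k : MulAut G) * w * (k : MulAut G)⁻¹) h1
    simpa [mul_assoc] using this.symm
  apply conj_injective hZ
  rw [← mul_conj_eq b, h2, mul_inv_cancel_right]

end General

section PSL

open H56

variable {F : Type*} [Field F] [Fintype F]

theorem field_arith {r : ℕ} (hr : r.Prime) {a : ℕ} (ha : 2 ≤ a) {n : ℕ}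
    (h : r ^ n ∣ a * (a ^ 2 - 1)) (hn : n ≠ 0) :
    r ^ (n + 1) ∣ a ^ r * ((a ^ r) ^ 2 - 1) := by
  have hcop : ∀ {u v : ℕ}, ¬ r ∣ u → r ^ n ∣ u * v → r ^ n ∣ v := fun {u v} hu huv =>
    (Nat.Coprime.pow_left n ((hr.coprime_iff_not_dvd).2 hu)).dvd_of_dvd_mul_left huv
  have h1 : 1 ≤ a ^ 2 := Nat.one_le_pow _ _ (by omega)
  by_cases hra : r ∣ a
  · have hnd : ¬ r ∣ a ^ 2 - 1 := fun hd => by
      have h2 : r ∣ a ^ 2 := dvd_trans hra (dvd_pow_self a two_ne_zero)
      have := Nat.dvd_sub h2 hd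
      rw [Nat.sub_sub_self h1] at this
      exact hr.one_lt.ne' (Nat.dvd_one.1 this)
    have h3 : r ^ n ∣ a := hcop hnd (by rwa [mul_comm])
    refine Dvd.dvd.mul_right ?_ _
    calc r ^ (n + 1) = r ^ n * r := pow_succ r n
      _ ∣ a * a := mul_dvd_mul h3 hra
      _ = a ^ 2 := (pow_two a).symm
      _ ∣ a ^ r := pow_dvd_pow a hr.two_le
  · have h3 : r ^ n ∣ a ^ 2 - 1 := hcop hra h
    refine Dvd.dvd.mul_left ?_ _
    have hrd : (r : ℤ) ∣ (a : ℤ) ^ 2 - 1 := by
      have := Int.natCast_dvd_natCast.2 ((dvd_pow_self r hn).trans h3)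
      push_cast [h1] at this
      exact this
    have hsum : (r : ℤ) ∣ ∑ i ∈ Finset.range r, ((a : ℤ) ^ 2) ^ i := by
      rw [← ZMod.intCast_zmod_eq_zero_iff_dvd] at hrd ⊢
      push_cast at hrd ⊢
      rw [sub_eq_zero] at hrd
      simp [hrd]
    have h5 : ((r ^ (n + 1) : ℕ) : ℤ) ∣ (((a ^ r) ^ 2 - 1 : ℕ) : ℤ) := by
      have h6 : (((a ^ r) ^ 2 - 1 : ℕ) : ℤ) =
          ((a : ℤ) ^ 2 - 1) * ∑ i ∈ Finset.range r, ((a : ℤ) ^ 2) ^ i := by
        rw [mul_geom_sum, Nat.cast_sub (Nat.one_le_pow _ _ (Nat.pow_pos (by omega)))]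
        push_cast
        rw [← pow_mul, ← pow_mul, mul_comm r 2]
      rw [h6, Nat.cast_pow, pow_succ]
      refine mul_dvd_mul ?_ hsum
      have := Int.natCast_dvd_natCast.2 h3
      push_cast [h1] at this
      exact this
    exact Int.natCast_dvd_natCast.1 h5

/-- The fixed subgroup of a field automorphism of odd prime order misses some Sylow subgroup. -/
theorem not_fix_sylow {r : ℕ} [Fact r.Prime] (hr2 : r ≠ 2) (σ : F ≃+* F) (hσ : orderOf (σ : RingAut F) = r)
    (hr : r ∣ Nat.card (PSLn 2 F)) (R : Sylow r (PSLn 2 F))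
    (hfix : ∀ x ∈ (R : Subgroup (PSLn 2 F)), semiAut (n := 2) 1 σ x = x) : False := by
  classical
  have hp : r.Prime := Fact.out
  have hodd : Odd r := hp.odd_of_ne_two hr2
  let H : Subgroup (RingAut F) := zpowers (σ : RingAut F)
  haveI : Finite (RingAut F) := DFunLike.finite _
  haveI : Fintype H := Fintype.ofFinite H
  let F₀ := FixedPoints.subfield H F
  have hrank : Module.finrank F₀ F = r := by
    rw [FixedPoints.finrank_eq_card H F, ← Nat.card_eq_fintype_card, Nat.card_zpowers, hσ]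
  haveI : Fintype F₀ := Fintype.ofFinite F₀
  set a := Fintype.card F₀ with ha
  have hq : Fintype.card F = a ^ r := by rw [← hrank]; exact Module.card_eq_pow_finrank
  let ι : SpecialLinearGroup (Fin 2) F₀ →* PSLn 2 F :=
    toP.comp (Matrix.SpecialLinearGroup.map (algebraMap F₀ F))
  have hsub : (R : Subgroup (PSLn 2 F)) ≤ ι.range := by
    intro x hx
    obtain ⟨s, rfl⟩ := toP_surjective x
    have h := hfix _ hx
    rw [semiAut_toP] at h
    -- `σ s = ± s`
    have hpm : (smat s).map σ = smat s ∨ (smat s).map σ = - smat s := by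
      have hs : smat (semiSL (1 : GL (Fin 2) F) σ s) = (smat s).map σ := by simp [smat_semiSL]
      obtain ⟨c, hc, hc'⟩ := Matrix.SpecialLinearGroup.mem_center_iff.1
        ((QuotientGroup.eq).1 h : (semiSL 1 σ s)⁻¹ * s ∈ center _)
      have hs2 : smat s = (smat s).map σ * Matrix.scalar (Fin 2) c := by
        rw [← hs, hc', ← Matrix.SpecialLinearGroup.coe_mul, mul_inv_cancel_left]
      have hc2 : c * c = 1 := by simpa [pow_two] using hc
      rcases mul_self_eq_one_iff.1 hc2 with rfl | rfl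
      · left; simpa using hs2.symm
      · right
        ext i j
        have h9 : smat s i j = - σ (smat s i j) := by
          have h8 := congrFun (congrFun hs2 i) j
          simpa using h8
        show σ (smat s i j) = - smat s i j
        exact (neg_eq_iff_eq_neg.2 h9).symm
    have hfixed : ∀ i j, σ (smat s i j) = smat s i j := by
      rcases hpm with h1 | h1
      · exact fun i j => congrFun (congrFun h1 i) j
      intro i j
      have hn : ∀ m : ℕ, ((σ : RingAut F) ^ m) (smat s i j) = (-1) ^ m * smat s i j := by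
        intro m
        induction m with
        | zero => simp
        | succ m ih =>
          rw [pow_succ', RingAut.mul_apply, ih, map_mul, map_pow, map_neg, map_one,
            show σ (smat s i j) = - smat s i j from congrFun (congrFun h1 i) j]
          ring
      have h2 := hn r
      rw [← hσ, pow_orderOf_eq_one, RingAut.one_apply, hσ, hodd.neg_one_pow, neg_one_mul] at h2
      show σ (smat s i j) = smat s i j
      rw [show σ (smat s i j) = - smat s i j from congrFun (congrFun h1 i) j]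
      exact h2.symm
    have hmem : ∀ i j, smat s i j ∈ F₀ := by
      rintro i j ⟨τ, hτ⟩
      have : zpowers (σ : RingAut F) ≤ MulAction.stabilizer (RingAut F) (smat s i j) :=
        zpowers_le.2 (hfixed i j)
      exact this hτ
    refine ⟨⟨Matrix.of fun i j => (⟨smat s i j, hmem i j⟩ : F₀), ?_⟩, ?_⟩
    · apply (algebraMap F₀ F).injective
      rw [map_one, RingHom.map_det]
      exact s.det_coe
    · show toP _ = toP s
      congr 1
  set n := (Nat.card (PSLn 2 F)).factorization r with hn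
  have hRc : Nat.card (R : Subgroup (PSLn 2 F)) = r ^ n := R.card_eq_multiplicity
  have hn0 : n ≠ 0 := (hp.factorization_pos_of_dvd Nat.card_pos.ne' hr).ne'
  have h1 : r ^ n ∣ a * (a ^ 2 - 1) := by
    rw [ha, ← Linear.card_SL_two, ← hRc]
    exact (card_dvd_of_le hsub).trans (Subgroup.card_range_dvd ι)
  have h2 := field_arith hp (Fintype.one_lt_card (α := F₀)) h1 hn0
  rw [← hq, ← Linear.card_PSL_two_mul] at h2
  have h3 : r ^ (n + 1) ∣ Nat.card (PSLn 2 F) := by
    refine (Nat.Coprime.pow_left _ ?_).dvd_of_dvd_mul_left h2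
    refine (Nat.Coprime.coprime_dvd_right (Nat.gcd_dvd_left 2 _) ?_)
    exact (Nat.coprime_primes hp Nat.prime_two).2 hr2
  have := (hp.pow_dvd_iff_le_factorization Nat.card_pos.ne').1 h3
  omega

omit [Fintype F] in
theorem sq_mem_inn (g : GL (Fin 2) F) :
    semiAut g (RingEquiv.refl F) * semiAut g (RingEquiv.refl F) ∈ Cfsg.Inn (PSLn 2 F) := by
  set d := Matrix.GeneralLinearGroup.det g with hd
  let M : GL (Fin 2) F := Matrix.GeneralLinearGroup.scalar (Fin 2) d⁻¹ * (g * g)
  have hdet : ((M : GL (Fin 2) F) : Matrix (Fin 2) (Fin 2) F).det = 1 := by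
    rw [← Matrix.GeneralLinearGroup.val_det_apply]
    simp only [M, map_mul, hd]
    rw [Units.val_mul, Units.val_mul, Matrix.GeneralLinearGroup.val_det_apply,
      Matrix.GeneralLinearGroup.coe_scalar]
    simp [Matrix.det_fin_two]
    have hne := d.ne_zero
    rw [hd, Matrix.GeneralLinearGroup.val_det_apply, Matrix.det_fin_two] at hne
    field_simp
  let s : SLn 2 F := ⟨_, hdet⟩
  refine ⟨toP s, ?_⟩
  rw [← semiAut_eq_conj, show Matrix.SpecialLinearGroup.toGL s = M from Units.ext rfl]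
  rw [semiAut_mul, show glMap (n := 2) (RingEquiv.refl F) g = g from Units.ext (by ext i j; rfl)]
  conv_rhs => rw [← one_mul (semiAut _ _), ← semiAut_scalar d⁻¹, semiAut_mul]
  congr 1

theorem psl_main {r : ℕ} [Fact r.Prime] (hr2 : r ≠ 2) [IsSimpleGroup (PSLn 2 F)]
    (hna : ¬ IsMulCommutative (PSLn 2 F)) (hr : r ∣ Nat.card (PSLn 2 F))
    (α : MulAut (PSLn 2 F)) {k : ℕ} (hα : α ^ r ^ k = 1) (R : Sylow r (PSLn 2 F))
    (hR : IsMulCommutative ↥(R : Subgroup (PSLn 2 F)))
    (hfix : ∀ x ∈ (R : Subgroup (PSLn 2 F)), α x = x) : α ∈ Cfsg.Inn (PSLn 2 F) := by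
  have hp : r.Prime := Fact.out
  -- `r`-elements with trivial field part are inner
  have hker : ∀ s : MulAut (PSLn 2 F), fieldHom le_rfl s = 1 → (∃ i : ℕ, s ^ r ^ i = 1) →
      s ∈ Cfsg.Inn (PSLn 2 F) := by
    rintro s hs ⟨i, hi⟩
    obtain ⟨g, σ, rfl⟩ := exists_semiAut_two s
    rw [fieldHom_semiAut] at hs
    obtain rfl : σ = RingEquiv.refl F := hs
    obtain ⟨m, hm⟩ := (hp.odd_of_ne_two hr2).pow (n := i)
    have h1 : semiAut g (RingEquiv.refl F) =
        ((semiAut g (RingEquiv.refl F) * semiAut g (RingEquiv.refl F)) ^ m)⁻¹ := by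
      refine eq_inv_of_mul_eq_one_left ?_
      rw [← pow_two, ← pow_mul, ← pow_succ']
      exact hm ▸ hi
    rw [h1]
    exact inv_mem (pow_mem (sq_mem_inn g) m)
  by_cases hf : fieldHom le_rfl α = 1
  · exact hker α hf ⟨k, hα⟩
  exfalso
  -- a power with field part of order `r`
  set σ₁ := fieldHom le_rfl α with hσ₁
  have hσp : σ₁ ^ r ^ k = 1 := by rw [hσ₁, ← map_pow, hα, map_one]
  obtain ⟨j, hj, hjo⟩ := (Nat.dvd_prime_pow hp).1 (orderOf_dvd_of_pow_eq_one hσp)
  obtain ⟨i, rfl⟩ : ∃ i, j = i + 1 := ⟨j - 1, by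
    rcases j with _ | j
    · exact absurd (orderOf_eq_one_iff.1 (by simpa using hjo)) hf
    · rfl⟩
  set a := α ^ r ^ i with ha
  set σ := fieldHom le_rfl a with hσdef
  have hσ : orderOf σ = r := by
    rw [hσdef, ha, map_pow, ← hσ₁, orderOf_pow' _ (pow_ne_zero _ hp.ne_zero), hjo,
      Nat.gcd_eq_right (pow_dvd_pow r (Nat.le_succ i)), Nat.pow_div (Nat.le_succ i) hp.pos]
    simp
  have hafix : ∀ x ∈ (R : Subgroup (PSLn 2 F)), a x = x := by
    intro x hx
    have : ∀ m : ℕ, (α ^ m) x = x := fun m => by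
      induction m with
      | zero => rfl
      | succ m ih => rw [pow_succ', MulAut.mul_apply, ih, hfix x hx]
    exact this _
  have hb : semiAut (1 : GL (Fin 2) F) σ ^ r = 1 := by
    have hpow : ∀ m : ℕ, semiAut (1 : GL (Fin 2) F) σ ^ m = semiAut 1 ((σ ^ m : RingAut F)) := by
      intro m
      induction m with
      | zero => rw [pow_zero, pow_zero]; exact semiAut_one.symm
      | succ m ih => rw [pow_succ', pow_succ', ih, semiAut_mul, map_one, mul_one]; rfl
    rw [hpow, ← hσ, pow_orderOf_eq_one]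
    exact semiAut_one
  obtain ⟨κ, hκ⟩ := fixes_sylow (center_eq_bot hna) R hR ((zpowers σ).comap (fieldHom le_rfl))
    (fun u hu => by
      rw [mem_comap, MonoidHom.mem_ker.1 (fieldHom_inn le_rfl hu)]; exact one_mem _)
    a (mem_zpowers σ) (j := k) (by rw [ha, ← pow_mul, mul_comm, pow_mul, hα, one_pow]) hafix
    (fun s hs => by
      obtain ⟨m, hm⟩ := hs
      refine ⟨-m, hker _ ?_⟩
      rw [map_mul, map_zpow, ← hσdef, ← hm]
      exact (congrArg (· * σ ^ m) (_root_.zpow_neg σ m)).trans (inv_mul_cancel _))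
    (semiAut 1 σ) (by rw [mem_comap, fieldHom_semiAut]; exact mem_zpowers σ) hb
  refine not_fix_sylow hr2 σ hσ hr (R.mapSurjective (f := κ.toMonoidHom) κ.surjective) ?_
  rintro _ ⟨x, hx, rfl⟩
  exact hκ x hx

end PSL

section Main

/-- The automorphism statement, given the list of simple groups with abelian Sylow subgroups. -/
theorem main {G : Type*} [Group G] [Finite G] [IsSimpleGroup G] (hna : ¬ IsMulCommutative G)
    (hA : ∀ (p : ℕ), p.Prime → ∀ (P : Sylow p G), IsMulCommutative ↥P)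
    (hlist : Cfsg.Spor.IsoJ1 G ∨ ∃ (F : Type) (_ : Field F) (_ : Fintype F),
      Nonempty (G ≃* Matrix.ProjectiveSpecialLinearGroup (Fin 2) F))
    (r : ℕ) [Fact r.Prime] (hr : r ∣ Nat.card G) (α : G ≃* G) (k : ℕ) (hα : orderOf α = r ^ k)
    (R : Sylow r G) (hR : ∀ x ∈ (R : Subgroup G), α x = x) :
    ∃ g : G, ∀ x : G, α x = g * x * g⁻¹ := by
  have hp : r.Prime := Fact.out
  by_cases hr2 : r = 2
  · subst hr2
    refine S4593.result (center_eq_bot hna) ?_ R (hA 2 hp R) α ⟨k, hα⟩ hR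
    rcases (Cfsg.pPrimeCore_normal 2 G).eq_bot_or_eq_top with h | h
    · exact h
    · exfalso
      have hodd : (Nat.card (Cfsg.pPrimeCore 2 G)).Coprime 2 := Cores.coprime_card_pPrimeCore
      rw [h, Subgroup.card_top] at hodd
      exact absurd (Nat.dvd_gcd hr dvd_rfl) (by rw [Nat.coprime_iff_gcd_eq_one.1 hodd]; norm_num)
  rcases hlist with ⟨⟨e⟩⟩ | ⟨F, iF, iFT, ⟨e⟩⟩
  · haveI := e.toEquiv.finite_iff.1 inferInstance
    have h1 : MulAut.congr e α ∈ Cfsg.Inn ↥Cfsg.Spor.J1 := by
      haveI := (Nat.card_eq_one_iff_unique.1 S2065.result).1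
      exact (QuotientGroup.eq_one_iff _).1 (Subsingleton.elim _ _)
    obtain ⟨x, hx⟩ := h1
    refine ⟨e.symm x, fun y => ?_⟩
    have := congrArg e.symm (MulEquiv.congr_fun hx (e y))
    simpa [MulAut.congr] using this.symm
  · haveI : IsSimpleGroup (H56.PSLn 2 F) := IsSimpleGroup.isSimpleGroup_of_surjective e.toMonoidHom e.surjective
    have hna' : ¬ IsMulCommutative (H56.PSLn 2 F) := fun h => hna ⟨⟨fun a b => e.injective (by
      rw [map_mul, map_mul]; exact h.is_comm.comm (e a) (e b))⟩⟩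
    let R' : Sylow r (H56.PSLn 2 F) := R.mapSurjective (f := e.toMonoidHom) e.surjective
    have hR' : IsMulCommutative ↥(R' : Subgroup (H56.PSLn 2 F)) := ⟨⟨by
      rintro ⟨_, a, ha, rfl⟩ ⟨_, b, hb, rfl⟩
      apply Subtype.ext
      show e a * e b = e b * e a
      rw [← map_mul, ← map_mul]
      exact congrArg e (congrArg Subtype.val ((hA r hp R).is_comm.comm ⟨a, ha⟩ ⟨b, hb⟩))⟩⟩
    obtain ⟨x, hx⟩ := psl_main hr2 hna' (Nat.card_congr e.toEquiv ▸ hr) (MulAut.congr e α) (k := k)
      (by rw [← map_pow, ← hα, pow_orderOf_eq_one, map_one]) R' hR' (by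
        rintro _ ⟨a, ha, rfl⟩
        simp [MulAut.congr, hR a ha])
    refine ⟨e.symm x, fun y => ?_⟩
    have := congrArg e.symm (MulEquiv.congr_fun hx (e y))
    simpa [MulAut.congr] using this.symm

end Main

end Cfsg.Agent.H43.AbelianSylowAut
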