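import Cfsg.Agent.H43.HeightZero
import Cfsg.Agent.H35.BlockInduction
import Cfsg.Agent.H35.Defect

/-!
2-blocks of defect one and the values of their characters on the section of the defect involution.
-/

set_option autoImplicit false

open scoped ComplexConjugate

namespace Cfsg.Agent.H43

open CharBasic BlockBasic

universe u

variable {K : Type u} [Group K] [Fintype K] {M : Ideal Cfsg.AlgInt}

/-- A 2-block of defect one has two characters, equal on regular and opposite on singular elements. -/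
theorem two_of_defect_one [Fact (Nat.Prime 2)] (hM : Cfsg.IsPModular 2 M)
    {b : Set (Cfsg.IrrCharacter K)} (hb : Cfsg.IsPBlock M b) (hd : Cfsg.blockDefect 2 b = 1) :
    ∃ χ₁ χ₂ : Cfsg.IrrCharacter K, χ₁ ≠ χ₂ ∧ (∀ θ, θ ∈ b ↔ θ = χ₁ ∨ θ = χ₂) ∧
      Cfsg.blockHeight 2 b (χ₁ : K → ℂ) = 0 ∧ Cfsg.blockHeight 2 b (χ₂ : K → ℂ) = 0 ∧
      (∀ g : K, ¬ 2 ∣ orderOf g → (χ₁ : K → ℂ) g = (χ₂ : K → ℂ) g) ∧
      (∀ g : K, 2 ∣ orderOf g → (χ₂ : K → ℂ) g = -(χ₁ : K → ℂ) g) ∧
      H83.regInner 2 χ₁ χ₁ = 1 / 2 := by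
  classical
  obtain ⟨χ, hχ, h0⟩ := H83.exists_height_zero hM hb
  let n : Cfsg.IrrCharacter K → ℤ := H83.entry 2 b χ
  have hsq := H83.sum_entry_sq hM hb hχ
  simp only [hd, pow_one] at hsq
  have hpos := H83.entry_self_pos hM hb hχ
  have hne : ∀ θ ∈ b, n θ ≠ 0 := fun θ hθ h =>
    H83.not_dvd_entry_of_height_zero hM hb hχ h0 hθ (by simp only [n] at h; rw [h]; exact dvd_zero _)
  have hodd : ¬ (2 : ℤ) ∣ n χ := by
    have := H83.not_dvd_entry_of_height_zero hM hb hχ h0 hχ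
    rwa [h0, zero_add, pow_one] at this
  have hrest : n χ ^ 2 + ∑ φ ∈ Finset.univ.erase χ, n φ ^ 2 = 2 * n χ := by
    rw [Finset.add_sum_erase _ (fun φ => n φ ^ 2) (Finset.mem_univ χ)]
    exact_mod_cast hsq
  have hnn : 0 ≤ ∑ φ ∈ Finset.univ.erase χ, n φ ^ 2 := Finset.sum_nonneg fun _ _ => sq_nonneg _
  have hn1 : n χ = 1 := by
    have h0' : 0 < n χ := hpos
    have h1 : n χ ≤ 2 := by nlinarith
    have h2 : n χ ≠ 2 := fun h => hodd (h ▸ dvd_refl _)
    omega
  rw [hn1] at hrest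
  obtain ⟨ψ, hψm, hψ0⟩ := Finset.exists_ne_zero_of_sum_ne_zero
    (show (∑ φ ∈ Finset.univ.erase χ, n φ ^ 2) ≠ 0 by omega)
  have hψχ : ψ ≠ χ := Finset.ne_of_mem_erase hψm
  have hψb : ψ ∈ b := by
    by_contra h
    exact hψ0 (by simp only [n, H83.entry_eq_zero hM hb hχ h]; ring)
  have hψsq : n ψ ^ 2 = 1 := by
    have h1 : n ψ ^ 2 ≤ ∑ φ ∈ Finset.univ.erase χ, n φ ^ 2 :=
      Finset.single_le_sum (f := fun φ => n φ ^ 2) (fun _ _ => sq_nonneg _) hψm
    have h2 : 0 < n ψ ^ 2 := lt_of_le_of_ne (sq_nonneg _) (Ne.symm hψ0)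
    omega
  have hzero : ∀ θ, θ ≠ χ → θ ≠ ψ → n θ = 0 := by
    intro θ h1 h2
    have hsum := Finset.add_sum_erase _ (fun φ => n φ ^ 2) hψm
    simp only [hψsq] at hsum
    have h3 : n θ ^ 2 ≤ ∑ φ ∈ (Finset.univ.erase χ).erase ψ, n φ ^ 2 :=
      Finset.single_le_sum (f := fun φ => n φ ^ 2) (fun _ _ => sq_nonneg _)
        (Finset.mem_erase.2 ⟨h2, Finset.mem_erase.2 ⟨h1, Finset.mem_univ _⟩⟩)
    have : n θ ^ 2 = 0 := le_antisymm (by omega) (sq_nonneg _)
    exact pow_eq_zero_iff two_ne_zero |>.1 this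
  have hmem : ∀ θ, θ ∈ b ↔ θ = χ ∨ θ = ψ := by
    refine fun θ => ⟨fun hθ => by_contra fun h => ?_, ?_⟩
    · push Not at h
      exact hne θ hθ (hzero θ h.1 h.2)
    · rintro (rfl | rfl) <;> assumption
  have hψ1 : n ψ = 1 ∨ n ψ = -1 := sq_eq_one_iff.1 hψsq
  have hψh : Cfsg.blockHeight 2 b (ψ : K → ℂ) = 0 := by
    by_contra h
    have h1 : (2 : ℤ) ∣ n ψ := (dvd_pow_self (2 : ℤ) h).trans
      (by exact_mod_cast H83.dvd_entry hM hb hχ hψb)
    omega
  have hexp : ∀ g : K, (χ : K → ℂ) g + (n ψ : ℂ) * (ψ : K → ℂ) g =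
      2 * Cfsg.pRegularPart 2 (χ : K → ℂ) g := by
    intro g
    have h := H83.sum_entry_mul_apply hM hb hχ g
    rw [Finset.sum_eq_add χ ψ (Ne.symm hψχ) (fun c _ hc => by
      have := hzero c hc.1 hc.2; simp only [n] at this; simp [this]) (by simp) (by simp), hd] at h
    simp only [n] at hn1
    rw [hn1] at h
    simpa using h
  have heps : n ψ = 1 := by
    rcases hψ1 with h | h
    · exact h
    · exfalso
      have h1 := hexp 1
      rw [H83.pRegularPart_eq_self _ (by simp), h, apply_one_eq_charDegree,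
        apply_one_eq_charDegree] at h1
      have h2 : (Cfsg.charDegree (χ : K → ℂ) : ℤ) - Cfsg.charDegree (ψ : K → ℂ) =
          2 * Cfsg.charDegree (χ : K → ℂ) := by
        have : (((Cfsg.charDegree (χ : K → ℂ) : ℤ) - Cfsg.charDegree (ψ : K → ℂ) : ℤ) : ℂ) =
            ((2 * (Cfsg.charDegree (χ : K → ℂ) : ℤ) : ℤ) : ℂ) := by
          push_cast at h1 ⊢; linear_combination h1
        exact_mod_cast this
      have := charDegree_pos χ
      omega
  refine ⟨χ, ψ, Ne.symm hψχ, hmem, h0, hψh, fun g hg => ?_, fun g hg => ?_, ?_⟩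
  · have h := hexp g
    rw [H83.pRegularPart_eq_self _ hg, heps] at h
    push_cast at h
    linear_combination -h
  · have h := hexp g
    rw [H83.pRegularPart_eq_zero _ hg, heps] at h
    push_cast at h
    linear_combination h
  · have h := H83.entry_spec hM hb hχ χ
    simp only [n] at hn1
    rw [hn1, hd] at h
    push_cast at h
    rw [pow_one] at h
    field_simp
    linear_combination -h

/-- A central involution acts by a sign. -/
theorem sign_of_central_involution {z : K} (hz : z ∈ Subgroup.center K) (hz2 : z * z = 1)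
    (η : Cfsg.IrrCharacter K) :
    ∃ s : ℤ, (s = 1 ∨ s = -1) ∧ ∀ g, (η : K → ℂ) (z * g) = (s : ℂ) * (η : K → ℂ) g := by
  obtain ⟨m, ρ, hρ, he⟩ := η.2
  obtain ⟨ω, -, -, hω⟩ := exists_central_scalar ρ hz
  have h1 : ω * ω = 1 := by
    have e := hω z
    have e1 := hω 1
    rw [hz2] at e
    rw [one_mul] at e1
    rw [e1, ← mul_assoc] at e
    have hne : ρ.character 1 ≠ 0 := he ▸ IsIrr.one_ne_zero η.2
    exact (mul_eq_right₀ hne).1 e.symm
  rw [← he]
  rcases mul_self_eq_one_iff.1 h1 with h | h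
  · exact ⟨1, Or.inl rfl, fun g => by
      rw [← Subgroup.mem_center_iff.1 hz g, hω g, h]; simp⟩
  · exact ⟨-1, Or.inr rfl, fun g => by
      rw [← Subgroup.mem_center_iff.1 hz g, hω g, h]; simp⟩

/-- The regular pairing of two linear combinations. -/
theorem sum_regular_pair {p : ℕ} (u v : Cfsg.IrrCharacter K → ℂ) :
    ∑ y : K, (if p ∣ orderOf y then 0 else
        (∑ η, u η * (η : K → ℂ) y) * conj (∑ η, v η * (η : K → ℂ) y)) =
      (Nat.card K : ℂ) * ∑ η, ∑ η', u η * conj (v η') * H83.regInner p η η' := by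
  simp only [Finset.mul_sum]
  rw [Finset.sum_congr rfl (g := fun η => ∑ η', u η * conj (v η') *
    ∑ y : K, if p ∣ orderOf y then 0 else (η : K → ℂ) y * conj ((η' : K → ℂ) y))
    (fun η _ => Finset.sum_congr rfl fun η' _ => by rw [← H83.regInner_eq_sum]; ring)]
  simp only [Finset.mul_sum]
  conv_rhs => arg 2; ext η; rw [Finset.sum_comm]
  refine Eq.trans ?_ Finset.sum_comm
  refine Finset.sum_congr rfl fun y _ => ?_
  split_ifs with h
  · simp
  · rw [map_sum, Finset.sum_mul_sum]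
    refine Finset.sum_congr rfl fun η _ => Finset.sum_congr rfl fun η' _ => ?_
    rw [map_mul]; ring

/-- A character over the odd elements times a central involution, against a part in one block. -/
theorem block_bessel {p : ℕ} [Fact p.Prime] (hM : Cfsg.IsPModular p M)
    {b b' : Set (Cfsg.IrrCharacter K)} (hb : Cfsg.IsPBlock M b) (hb' : Cfsg.IsPBlock M b')
    (hne : b ≠ b') (m : Cfsg.IrrCharacter K → ℤ) :
    ∃ r : ℝ, 0 ≤ r ∧ ∑ η, ∑ η', (m η : ℂ) * (m η' : ℂ) * H83.regInner p η η' =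
      (∑ᶠ η ∈ b, ∑ᶠ η' ∈ b, (m η : ℂ) * (m η' : ℂ) * H83.regInner p η η') +
      (∑ᶠ η ∈ b', ∑ᶠ η' ∈ b', (m η : ℂ) * (m η' : ℂ) * H83.regInner p η η') + (r : ℂ) := by
  classical
  let w : Cfsg.IrrCharacter K → ℂ := fun η => if η ∈ b ∨ η ∈ b' then 0 else (m η : ℂ)
  have hdisj : ∀ η, η ∈ b → η ∉ b' := fun η h h' => hne (isPBlock_eq_of_mem hM hb hb' h h')
  have hpair := sum_regular_pair (p := p) w w
  refine ⟨(Nat.card K : ℝ)⁻¹ * ∑ y : K, (if p ∣ orderOf y then 0 else
    Complex.normSq (∑ η, w η * (η : K → ℂ) y)), ?_, ?_⟩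
  · refine mul_nonneg (by positivity) (Finset.sum_nonneg fun y _ => ?_)
    split_ifs
    · exact le_rfl
    · exact Complex.normSq_nonneg _
  have hK : (Nat.card K : ℂ) ≠ 0 := Nat.cast_ne_zero.2 Nat.card_pos.ne'
  have e : (((Nat.card K : ℝ)⁻¹ * ∑ y : K, (if p ∣ orderOf y then 0 else
      Complex.normSq (∑ η, w η * (η : K → ℂ) y)) : ℝ) : ℂ) =
      ∑ η, ∑ η', w η * conj (w η') * H83.regInner p η η' := by
    rw [← mul_right_inj' hK, ← hpair]
    push_cast
    rw [← mul_assoc, mul_inv_cancel₀ hK, one_mul]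
    refine Finset.sum_congr rfl fun y _ => ?_
    split_ifs
    · simp
    · rw [Complex.mul_conj]
  rw [e]
  simp only [finsum_mem_eq_sum_ite, ← Finset.sum_add_distrib]
  refine Finset.sum_congr rfl fun η _ => ?_
  by_cases h1 : η ∈ b
  · have hw : w η = 0 := if_pos (Or.inl h1)
    rw [if_pos h1, if_neg (hdisj η h1), hw]
    simp only [zero_mul, Finset.sum_const_zero, add_zero]
    refine Finset.sum_congr rfl fun η' _ => ?_
    split_ifs with h
    · rfl
    · rw [H83.regInner_eq_zero hM hb h1 h, mul_zero]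
  · by_cases h2 : η ∈ b'
    · have hw : w η = 0 := if_pos (Or.inr h2)
      rw [if_neg h1, if_pos h2, hw]
      simp only [zero_mul, Finset.sum_const_zero, zero_add, add_zero]
      refine Finset.sum_congr rfl fun η' _ => ?_
      split_ifs with h
      · rfl
      · rw [H83.regInner_eq_zero hM hb' h2 h, mul_zero]
    · have hw : w η = (m η : ℂ) := if_neg (fun h => h.elim h1 h2)
      rw [if_neg h1, if_neg h2, hw, zero_add, zero_add]
      refine Finset.sum_congr rfl fun η' _ => ?_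
      by_cases h : η' ∈ b ∨ η' ∈ b'
      · rw [show w η' = 0 from if_pos h]
        rcases h with h | h
        · rw [H83.regInner_symm, H83.regInner_eq_zero hM hb h h1]; simp
        · rw [H83.regInner_symm, H83.regInner_eq_zero hM hb' h h2]; simp
      · rw [show w η' = (m η' : ℂ) from if_neg h, map_intCast]

end Cfsg.Agent.H43
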