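import Cfsg.Agent.H83.RegInner
import Cfsg.Agent.Cores.SecondMain
import Cfsg.Agent.Cores.ThirdMain
import Cfsg.Agent.CharInduce.Ops

/-!
Height zero characters and induced blocks (Blau, Okuyama): the central element attached to the
`p`-regular part of a height zero character separates its block and restricts to subgroups.
-/

set_option autoImplicit false

open scoped ComplexConjugate

namespace Cfsg.Agent.H43

open CharBasic BlockBasic

universe u

variable {G : Type u} [Group G] [Fintype G] {p : ℕ} [Fact p.Prime] {M : Ideal Cfsg.AlgInt}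

theorem omega_regElt_zero (hM : Cfsg.IsPModular p M) {B : Set (Cfsg.IrrCharacter G)}
    (hB : Cfsg.IsPBlock M B) {χ θ : Cfsg.IrrCharacter G} (hχ : χ ∈ B) (hθ : θ ∉ B) :
    omega (θ : G → ℂ) (H83.regElt p χ) = 0 := by
  have h := H83.regInner_eq_omega (p := p) χ θ
  rw [H83.regInner_symm, H83.regInner_eq_zero hM hB hχ hθ, mul_zero] at h
  exact (mul_eq_zero.1 h.symm).resolve_left (IsIrr.one_ne_zero θ.2)

theorem omega_regElt_unit (hM : Cfsg.IsPModular p M) {B : Set (Cfsg.IrrCharacter G)}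
    (hB : Cfsg.IsPBlock M B) {χ θ : Cfsg.IrrCharacter G} (hχ : χ ∈ B)
    (h0 : Cfsg.blockHeight p B (χ : G → ℂ) = 0) (hθ : θ ∈ B) :
    ¬ Cfsg.MemLocalIdeal M (omega (θ : G → ℂ) (H83.regElt p χ)) := by
  rw [← H83.dvd_entry_succ_iff hM hB hχ hχ hθ]
  exact H83.not_dvd_entry_of_height_zero hM hB hχ h0 hχ

theorem omega_regElt_mem (hM : Cfsg.IsPModular p M) {B : Set (Cfsg.IrrCharacter G)}
    (hB : Cfsg.IsPBlock M B) {χ θ : Cfsg.IrrCharacter G} (hχ : χ ∈ B)
    (h0 : 0 < Cfsg.blockHeight p B (χ : G → ℂ)) (hθ : θ ∈ B) :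
    Cfsg.MemLocalIdeal M (omega (θ : G → ℂ) (H83.regElt p χ)) :=
  (H83.dvd_entry_succ_iff hM hB hχ hθ hθ).1 (H83.dvd_entry_succ hM hB hχ h0 hθ)

/-- Okuyama: a height zero character restricting irreducibly. -/
theorem induced_iff_of_res (hM : Cfsg.IsPModular p M) {H : Subgroup G} [Fintype H]
    (χ : Cfsg.IrrCharacter G) (hres : Cfsg.IsIrrCharacter H (fun h : H => (χ : G → ℂ) h))
    (hχ0 : Cfsg.blockHeight p (Cfsg.blockOf M (χ : G → ℂ)) (χ : G → ℂ) = 0)
    (hψ0 : Cfsg.blockHeight p (Cfsg.blockOf M (fun h : H => (χ : G → ℂ) h))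
      (fun h : H => (χ : G → ℂ) h) = 0)
    {e : Set (Cfsg.IrrCharacter H)} (he : Cfsg.InducedBlockDefined M H e) :
    Cfsg.IsInducedBlock M H e (Cfsg.blockOf M (χ : G → ℂ)) ↔
      e = Cfsg.blockOf M (fun h : H => (χ : G → ℂ) h) := by
  set ψ : Cfsg.IrrCharacter H := ⟨_, hres⟩ with hψ
  have hres' : Cores.resElt H (H83.regElt p χ) = H83.regElt p ψ := by
    apply MonoidAlgebra.coeff_injective
    ext h
    simp [Cores.resElt, H83.regElt, Subgroup.orderOf_coe, hψ]
  have hB := isPBlock_blockOf M χ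
  have hb := isPBlock_blockOf M ψ
  have hχB : χ ∈ Cfsg.blockOf M (χ : G → ℂ) := sameBlock_refl hM _
  have hψb : ψ ∈ Cfsg.blockOf M (ψ : H → ℂ) := sameBlock_refl hM _
  have key : ∀ {B : Set (Cfsg.IrrCharacter G)}, Cfsg.IsInducedBlock M H e B → ∀ ξ ∈ e, ∀ θ ∈ B,
      Cfsg.MemLocalIdeal M (omega (ξ : H → ℂ) (H83.regElt p ψ) - omega (θ : G → ℂ) (H83.regElt p χ)) :=
    fun {B} hind ξ hξ θ hθ => hres' ▸ Cores.omega_resElt_congr hM (IsIrr.isClassFunction θ.2)
      (hind.2.2 ξ hξ θ hθ) (H83.isCentralElt_regElt χ) (H83.isIntElt_regElt hM χ)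
  constructor
  · intro hind
    obtain ⟨ξ, hξ⟩ := isPBlock_nonempty hM hind.1
    refine isPBlock_eq_of_mem hM hind.1 hb hξ (by_contra fun hne => ?_)
    have := key hind ξ hξ χ hχB
    rw [omega_regElt_zero hM hb hψb hne, zero_sub] at this
    exact omega_regElt_unit hM hB hχB hχ0 hχB (by simpa using memLocalIdeal_neg this)
  · rintro rfl
    obtain ⟨B, hind⟩ := he
    obtain ⟨θ, hθ⟩ := isPBlock_nonempty hM hind.2.1
    have hBeq : B = Cfsg.blockOf M (χ : G → ℂ) := by
      refine isPBlock_eq_of_mem hM hind.2.1 hB hθ (by_contra fun hne => ?_)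
      have := key hind ψ hψb θ hθ
      rw [omega_regElt_zero hM hB hχB hne, sub_zero] at this
      exact omega_regElt_unit hM hb hψb hψ0 hψb this
    exact hBeq ▸ hind

omit [Fact p.Prime] in
/-- The restricted regular element decomposes along the constituents. -/
theorem omega_resElt_regElt_eq_sum {H : Subgroup G} [Fintype H] {χ : Cfsg.IrrCharacter G}
    (n : Cfsg.IrrCharacter H → ℕ)
    (hn : ∀ η : Cfsg.IrrCharacter H,
      Cfsg.classInner (fun h : H => (χ : G → ℂ) h) (η : H → ℂ) = (n η : ℂ))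
    (ξ : Cfsg.IrrCharacter H) :
    omega (ξ : H → ℂ) (Cores.resElt H (H83.regElt p χ)) =
      ∑ η : Cfsg.IrrCharacter H, (n η : ℂ) * omega (ξ : H → ℂ) (H83.regElt p η) := by
  classical
  have hχH : Cfsg.IsCharacter H (fun h : H => (χ : G → ℂ) h) :=
    CharInduce.IsChar.res (IsIrr.isCharacter χ.2) H
  have hexp : ∀ h : H, (χ : G → ℂ) h = ∑ η : Cfsg.IrrCharacter H, (n η : ℂ) * (η : H → ℂ) h := by
    intro h
    have := congrFun (classFunction_expansion (IsChar.isClassFunction hχH)) h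
    simp only [Finset.sum_apply, Pi.smul_apply, smul_eq_mul, hn] at this
    exact this
  simp only [omega, chiLin, mul_div_assoc', Finset.mul_sum]
  rw [← Finset.sum_div, Finset.sum_comm]
  congr 1
  refine Finset.sum_congr rfl fun h _ => ?_
  simp only [Cores.coeff_resElt, H83.regElt, coeff_ofFun, Subgroup.orderOf_coe]
  split_ifs with hp'
  · simp
  · rw [hexp h, map_sum, Finset.sum_mul]
    exact Finset.sum_congr rfl fun η _ => by rw [map_mul, Complex.conj_natCast, mul_assoc]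

/-- Blau: a height zero character has a height zero constituent of multiplicity prime to `p`
in every block inducing its block. -/
theorem exists_height_zero_constituent (hM : Cfsg.IsPModular p M) {H : Subgroup G} [Fintype H]
    {b : Set (Cfsg.IrrCharacter H)} {B : Set (Cfsg.IrrCharacter G)}
    (hind : Cfsg.IsInducedBlock M H b B) {χ : Cfsg.IrrCharacter G} (hχ : χ ∈ B)
    (h0 : Cfsg.blockHeight p B (χ : G → ℂ) = 0) :
    ∃ ξ ∈ b, Cfsg.blockHeight p b (ξ : H → ℂ) = 0 ∧ ∃ n : ℕ,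
      Cfsg.classInner (fun h : H => (χ : G → ℂ) h) (ξ : H → ℂ) = (n : ℂ) ∧ ¬ p ∣ n := by
  classical
  by_contra hall
  push Not at hall
  have hχH : Cfsg.IsCharacter H (fun h : H => (χ : G → ℂ) h) :=
    CharInduce.IsChar.res (IsIrr.isCharacter χ.2) H
  choose n hn using fun η : Cfsg.IrrCharacter H => classInner_isChar_nat hχH (IsIrr.isCharacter η.2)
  obtain ⟨ξ, hξ⟩ := isPBlock_nonempty hM hind.1
  apply omega_regElt_unit hM hind.2.1 hχ h0 hχ
  have hcong := Cores.omega_resElt_congr hM (IsIrr.isClassFunction χ.2) (hind.2.2 ξ hξ χ hχ)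
    (H83.isCentralElt_regElt (p := p) χ) (H83.isIntElt_regElt hM χ)
  have hsum := omega_resElt_regElt_eq_sum (p := p) (χ := χ) n hn ξ
  have hmem : Cfsg.MemLocalIdeal M (omega (ξ : H → ℂ) (Cores.resElt H (H83.regElt p χ))) := by
    rw [hsum]
    refine memLocalIdeal_sum hM _ _ fun η _ => ?_
    have hR : Cfsg.MemLocalRing M (omega (ξ : H → ℂ) (H83.regElt p η)) :=
      memLocalRing_omega hM ξ.2 (H83.isCentralElt_regElt η) (H83.isIntElt_regElt hM η)
    by_cases hη : η ∈ b
    · rcases Nat.eq_zero_or_pos (Cfsg.blockHeight p b (η : H → ℂ)) with hz | hz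
      · rw [mul_comm]
        exact memLocalIdeal_mul hM hR ((memLocalIdeal_natCast_iff hM _).2 (hall η hη hz (n η) (hn η)))
      · exact memLocalIdeal_mul hM (memLocalRing_natCast hM _)
          (omega_regElt_mem hM hind.1 hη hz hξ)
    · rw [omega_regElt_zero hM (isPBlock_blockOf M η) (sameBlock_refl hM _)
        (fun h => hη (isPBlock_eq_of_mem hM hind.1 (isPBlock_blockOf M η) hξ h ▸ sameBlock_refl hM _)),
        mul_zero]
      exact memLocalIdeal_zero hM
  simpa using memLocalIdeal_sub hM hmem hcong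

end Cfsg.Agent.H43
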